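import Mathlib

/-!
# A regular element equal to a power of another one in codimension one
-/

set_option autoImplicit false

universe u

namespace GrothLib.CartierDescent

variable {B : Type u} [CommRing B] [IsNoetherianRing B]

/-- An element whose class has a colon ideal avoiding all minimal primes is divisible by `τ`. -/
theorem mem_span_of_forall_minimal {τ h : B}
    (hAss : ∀ P : Ideal B, IsAssociatedPrime P (B ⧸ Ideal.span {τ}) → P ∈ (Ideal.span {τ}).minimalPrimes)
    (H : ∀ P ∈ (Ideal.span {τ}).minimalPrimes, ∃ u, u ∉ P ∧ u * h ∈ Ideal.span {τ}) : h ∈ Ideal.span {τ} := by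
  by_contra hh
  obtain ⟨P, hP, hle⟩ := exists_le_isAssociatedPrime_of_isNoetherianRing B (Ideal.Quotient.mk (Ideal.span {τ}) h)
    (fun e => hh (Ideal.Quotient.eq_zero_iff_mem.1 e))
  obtain ⟨u, hu, hul⟩ := H P (hAss P hP)
  refine hu (hle ?_)
  rw [Submodule.mem_colon_singleton, Submodule.mem_bot]
  exact Ideal.Quotient.eq_zero_iff_mem.2 hul

/-- Over a regular element without embedded associated primes, a regular element is a power of it as soon
as this holds at the minimal primes and away from it. -/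
theorem span_eq_span_pow [IsLocalRing B] {τ γ : B} (hτ : τ ∈ nonZeroDivisors B) (n : ℕ)
    (hAss : ∀ P : Ideal B, IsAssociatedPrime P (B ⧸ Ideal.span {τ}) → P ∈ (Ideal.span {τ}).minimalPrimes)
    (hmin : ∀ P ∈ (Ideal.span {τ}).minimalPrimes,
      (∃ u, u ∉ P ∧ u * γ ∈ Ideal.span {τ ^ n}) ∧ ∃ u, u ∉ P ∧ u * τ ^ n ∈ Ideal.span {γ})
    (haway : ∀ P : Ideal B, P.IsPrime → τ ∉ P → γ ∉ P) :
    Ideal.span {γ} = Ideal.span {τ ^ n} := by
  have key : ∀ k, k ≤ n → ∃ h, γ = τ ^ k * h := by
    intro k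
    induction k with
    | zero => exact fun _ => ⟨γ, by simp⟩
    | succ k ih =>
      intro hk
      obtain ⟨h, rfl⟩ := ih (Nat.le_of_succ_le hk)
      obtain ⟨h', rfl⟩ := Ideal.mem_span_singleton'.1 (mem_span_of_forall_minimal (h := h) hAss fun P hP => by
        obtain ⟨⟨u, hu, hug⟩, -⟩ := hmin P hP
        refine ⟨u, hu, ?_⟩
        obtain ⟨e, he⟩ := Ideal.mem_span_singleton'.1 hug
        obtain ⟨m, rfl⟩ : ∃ m, n = k + (m + 1) := ⟨n - k - 1, by omega⟩
        refine Ideal.mem_span_singleton'.2 ⟨e * τ ^ m, ?_⟩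
        refine (mul_cancel_right_mem_nonZeroDivisors (pow_mem hτ k)).1 ?_
        linear_combination he + e * (pow_add τ k (m + 1)).symm * 0)
      exact ⟨h', by ring⟩
  obtain ⟨h, rfl⟩ := key n le_rfl
  refine Ideal.span_singleton_mul_right_unit ?_ _
  by_contra hh
  obtain ⟨P, hP⟩ := Ideal.nonempty_minimalPrimes (I := Ideal.span {h}) (fun e => hh (Ideal.span_singleton_eq_top.1 e))
  have hPp : P.IsPrime := hP.1.1
  have hhP : h ∈ P := hP.1.2 (Ideal.mem_span_singleton_self h)
  by_cases hτP : τ ∈ P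
  · obtain ⟨P₀, hP₀, hle⟩ := Ideal.exists_minimalPrimes_le (I := Ideal.span {τ}) (J := P)
      ((Ideal.span_singleton_le_iff_mem _).2 hτP)
    have hP₀p : P₀.IsPrime := hP₀.1.1
    have hτ₀ : τ ∈ P₀ := hP₀.1.2 (Ideal.mem_span_singleton_self τ)
    obtain rfl | hlt := hle.eq_or_lt
    · obtain ⟨u, hu, hue⟩ := (hmin P₀ hP₀).2
      obtain ⟨e, he⟩ := Ideal.mem_span_singleton'.1 hue
      refine hu ?_
      have : u = e * h := (mul_cancel_right_mem_nonZeroDivisors (pow_mem hτ n)).1 (by linear_combination -he)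
      exact this ▸ Ideal.mul_mem_left _ _ hhP
    · have h1 : P.height ≤ 1 := Ideal.height_le_one_of_isPrincipal_of_mem_minimalPrimes _ P hP
      have h2 : P₀.height < 1 := (Ideal.height_strict_mono_of_isPrime hlt).trans_le h1
      have hmem : P₀ ∈ minimalPrimes B := Ideal.height_eq_zero_iff.1 (ENat.lt_one_iff_eq_zero.1 h2)
      exact Set.disjoint_left.1 (Ideal.disjoint_nonZeroDivisors_of_mem_minimalPrimes hmem) hτ₀ hτ
  · exact haway P hPp hτP (Ideal.mul_mem_left _ _ hhP)

end GrothLib.CartierDescent
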