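import Groth.Agent.Lib.CartierDescent.Scheme
import Groth.Agent.Lib.CartierDescent.AssAlgebra
import Groth.Agent.Lib.FibreFlat.Stalk
import Groth.Agent.Lib.NormalSerre.Serre
import Groth.Agent.Lib.FFDesc.Basic
import Groth.Prelude.Def_Pi1

/-!
# Principality over local rings of small depth
-/

set_option autoImplicit false
set_option backward.isDefEq.respectTransparency false
set_option backward.isDefEq.respectTransparency.types false

universe u

open CategoryTheory CategoryTheory.Limits AlgebraicGeometry TopologicalSpace IsLocalRing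

namespace GrothLib.CartierDescent

open GrothLib.BlowUp (CartierOn exists_cartierOn_le exists_affine_mem_le ideal_comap_eq_map
  ideal_comap_eq_map_of_isAffine)

variable {X Y : Scheme.{u}} {f : X ⟶ Y} {𝓙 : X.IdealSheafData}

theorem exists_generator_of_local {A : CommRingCat.{u}} [IsLocalRing A] {𝓘 : (Spec A).IdealSheafData}
    (h : BlowUp.IsEffCartierIdeal 𝓘) :
    ∃ a : A, (𝓘.ideal ⟨⊤, isAffineOpen_top _⟩).map (Scheme.ΓSpecIso A).hom.hom = Ideal.span {a} := by
  obtain ⟨U, hU, g, -, hg⟩ := h (closedPoint A)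
  obtain rfl : U = ⟨⊤, isAffineOpen_top _⟩ := Subtype.ext (eq_top_iff.2 fun z _ => (specializes_closedPoint z).mem_open U.1.2 hU)
  exact ⟨(Scheme.ΓSpecIso A).hom g, by rw [hg, Ideal.map_span, Set.image_singleton]⟩

theorem stalkPrincipal_of_exists (y : Y)
    (h : ∃ 𝓘₁ : (Spec (Y.presheaf.stalk y)).IdealSheafData, BlowUp.IsEffCartierIdeal 𝓘₁ ∧
      𝓘₁.comap (pullback.snd f (Y.fromSpecStalk y)) = 𝓙.comap (pullback.fst f (Y.fromSpecStalk y))) :
    StalkPrincipal f 𝓙 y := by
  obtain ⟨𝓘₁, h₁, h₂⟩ := h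
  obtain ⟨a, ha⟩ := exists_generator_of_local h₁
  refine ⟨a, fun x hx => ?_⟩
  let φ := Y.presheaf.stalkSpecializes hx ≫ f.stalkMap x
  have w : X.fromSpecStalk x ≫ f = Spec.map φ ≫ Y.fromSpecStalk y := by
    rw [Spec.map_comp, Category.assoc, Scheme.SpecMap_stalkSpecializes_fromSpecStalk,
      Scheme.SpecMap_stalkMap_fromSpecStalk]
  rw [stalkIdeal_of_comap_eq 𝓘₁ _ _ 𝓙 h₂ x φ (pullback.lift _ _ w) (pullback.lift_fst _ _ _)
    (pullback.lift_snd _ _ _), ha, Ideal.map_span, Set.image_singleton]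

theorem exists_of_descent {𝓘 : Y.IdealSheafData} (h : BlowUp.IsEffCartierIdeal 𝓘) (e : 𝓘.comap f = 𝓙) (y : Y) :
    ∃ 𝓘₁ : (Spec (Y.presheaf.stalk y)).IdealSheafData, BlowUp.IsEffCartierIdeal 𝓘₁ ∧
      𝓘₁.comap (pullback.snd f (Y.fromSpecStalk y)) = 𝓙.comap (pullback.fst f (Y.fromSpecStalk y)) := by
  haveI : Flat (Y.fromSpecStalk y) := GrothLib.FFDesc.flat_fromSpecStalk' Y y
  refine ⟨𝓘.comap (Y.fromSpecStalk y), GrothLib.BlowUp.isEffCartierIdeal_comap_of_flat _ h, ?_⟩
  rw [← e, ← Scheme.IdealSheafData.comap_comp, ← Scheme.IdealSheafData.comap_comp, pullback.condition]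

theorem stalkIdeal_eq_top_iff (𝓙 : X.IdealSheafData) (x : X) : stalkIdeal 𝓙 x = ⊤ ↔ x ∉ 𝓙.support := by
  obtain ⟨V, hx, -⟩ := exists_affine_mem_le (W := (⊤ : X.Opens)) (x := x) trivial
  rw [stalkIdeal_eq 𝓙 V hx, Scheme.IdealSheafData.mem_support_iff_of_mem hx, Scheme.mem_zeroLocus_iff]
  push Not
  constructor
  · intro h
    by_contra hcon
    push Not at hcon
    refine (maximalIdeal.isMaximal (X.presheaf.stalk x)).ne_top (eq_top_iff.2 (h ▸ Ideal.map_le_iff_le_comap.2 ?_))
    intro s hs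
    exact (mem_maximalIdeal _).2 fun hu => hcon s hs ((X.mem_basicOpen s x hx).2 hu)
  · rintro ⟨s, hs, hxs⟩
    exact Ideal.eq_top_of_isUnit_mem _ (Ideal.mem_map_of_mem _ hs) ((X.mem_basicOpen s x hx).1 hxs)

theorem stalkIdeal_map_specializes (𝓙 : X.IdealSheafData) {x' x : X} (h : x' ⤳ x) :
    (stalkIdeal 𝓙 x).map (X.presheaf.stalkSpecializes h).hom = stalkIdeal 𝓙 x' := by
  obtain ⟨V, hx, -⟩ := exists_affine_mem_le (W := (⊤ : X.Opens)) (x := x) trivial
  rw [stalkIdeal_eq 𝓙 V hx, stalkIdeal_eq 𝓙 V (h.mem_open V.1.2 hx), Ideal.map_map, ← CommRingCat.hom_comp,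
    TopCat.Presheaf.germ_stalkSpecializes]

theorem exists_stalk_generator (hJ : BlowUp.IsEffCartierIdeal 𝓙) (x : X) :
    ∃ γ, γ ∈ nonZeroDivisors (X.presheaf.stalk x) ∧ stalkIdeal 𝓙 x = Ideal.span {γ} := by
  obtain ⟨V, hx, g, hg, hge⟩ := hJ x
  let _ := TopCat.Presheaf.algebra_section_stalk X.presheaf (⟨x, hx⟩ : V.1)
  haveI := V.2.isLocalization_stalk ⟨x, hx⟩
  refine ⟨X.presheaf.germ V.1 x hx g, ?_, ?_⟩
  · exact GrothLib.BlowUp.mem_nonZeroDivisors_of_flat (algebraMap Γ(X, V.1) (X.presheaf.stalk x))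
      (RingHom.flat_algebraMap_iff.2 (IsLocalization.flat _ (V.2.primeIdealOf ⟨x, hx⟩).asIdeal.primeCompl)) hg
  · rw [stalkIdeal_eq 𝓙 V hx, hge, Ideal.map_span, Set.image_singleton]

/-- Membership in a principal ideal at a generization, read in the local ring. -/
theorem exists_of_mem_span_stalkSpecializes {x' x : X} (h : x' ⤳ x) {b c : X.presheaf.stalk x}
    (hbc : X.presheaf.stalkSpecializes h b ∈ Ideal.span {X.presheaf.stalkSpecializes h c}) :
    ∃ u, u ∉ (maximalIdeal (X.presheaf.stalk x')).comap (X.presheaf.stalkSpecializes h).hom ∧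
      u * b ∈ Ideal.span {c} := by
  obtain ⟨V, hx, -⟩ := exists_affine_mem_le (W := (⊤ : X.Opens)) (x := x) trivial
  have hx' : x' ∈ V.1 := h.mem_open V.1.2 hx
  let _ := TopCat.Presheaf.algebra_section_stalk X.presheaf (⟨x, hx⟩ : V.1)
  haveI := V.2.isLocalization_stalk ⟨x, hx⟩
  obtain ⟨b₁, s, rfl⟩ := IsLocalization.exists_mk'_eq (V.2.primeIdealOf ⟨x, hx⟩).asIdeal.primeCompl b
  obtain ⟨c₁, t, rfl⟩ := IsLocalization.exists_mk'_eq (V.2.primeIdealOf ⟨x, hx⟩).asIdeal.primeCompl c
  let π := algebraMap Γ(X, V.1) (X.presheaf.stalk x)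
  have hπ : ∀ z, X.presheaf.stalkSpecializes h (π z) = X.presheaf.germ V.1 x' hx' z := fun z =>
    TopCat.Presheaf.germ_stalkSpecializes_apply _ hx h z
  have hs : IsUnit (π s) := IsLocalization.map_units _ s
  have ht : IsUnit (π t) := IsLocalization.map_units _ t
  have key : X.presheaf.germ V.1 x' hx' b₁ ∈ Ideal.span {X.presheaf.germ V.1 x' hx' c₁} := by
    rw [← hπ, ← hπ, ← IsLocalization.mk'_spec (X.presheaf.stalk x) b₁ s,
      ← IsLocalization.mk'_spec (X.presheaf.stalk x) c₁ t, map_mul, map_mul,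
      Ideal.span_singleton_mul_right_unit (ht.map (X.presheaf.stalkSpecializes h).hom)]
    exact Ideal.mul_mem_right _ _ hbc
  obtain ⟨u, hu, hub⟩ := exists_of_mem_span_germ V.2 hx' key
  refine ⟨π u, fun hm => (mem_maximalIdeal _).1 (Ideal.mem_comap.1 hm) ?_, ?_⟩
  · change IsUnit (X.presheaf.stalkSpecializes h (π u))
    rw [hπ]
    let _ := TopCat.Presheaf.algebra_section_stalk X.presheaf (⟨x', hx'⟩ : V.1)
    haveI := V.2.isLocalization_stalk ⟨x', hx'⟩
    exact IsLocalization.map_units (X.presheaf.stalk x') (⟨u, hu⟩ : (V.2.primeIdealOf ⟨x', hx'⟩).asIdeal.primeCompl)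
  · refine (Ideal.mul_unit_mem_iff_mem _ hs).1 ?_
    rw [mul_assoc, IsLocalization.mk'_spec, ← map_mul,
      ← Ideal.span_singleton_mul_right_unit ht (IsLocalization.mk' _ c₁ t), IsLocalization.mk'_spec]
    obtain ⟨e, he⟩ := Ideal.mem_span_singleton'.1 hub
    rw [← he, map_mul]
    exact Ideal.mul_mem_left _ _ (Ideal.mem_span_singleton_self _)

/-- The prime of the local ring at a generization. -/
theorem exists_specializes_eq (x : X) (P : Ideal (X.presheaf.stalk x)) [hP : P.IsPrime] :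
    ∃ (x' : X) (h : x' ⤳ x), P = (maximalIdeal (X.presheaf.stalk x')).comap (X.presheaf.stalkSpecializes h).hom ∧
      x' = X.fromSpecStalk x ⟨P, hP⟩ := by
  let x' := X.fromSpecStalk x ⟨P, hP⟩
  have h : x' ⤳ x := by
    have := Set.mem_range_self (f := X.fromSpecStalk x) ⟨P, hP⟩
    rwa [Scheme.range_fromSpecStalk] at this
  refine ⟨x', h, ?_, rfl⟩
  have e : (Spec.map (X.presheaf.stalkSpecializes h)) (closedPoint (X.presheaf.stalk x')) = ⟨P, hP⟩ := by
    refine (X.fromSpecStalk x).isEmbedding.injective ?_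
    rw [← Scheme.Hom.comp_apply, Scheme.SpecMap_stalkSpecializes_fromSpecStalk, Scheme.fromSpecStalk_closedPoint]
  exact (congrArg PrimeSpectrum.asIdeal e).symm

theorem comap_maximalIdeal_le {x'' x' x : X} (h' : x'' ⤳ x') (h : x' ⤳ x) :
    (maximalIdeal (X.presheaf.stalk x'')).comap (X.presheaf.stalkSpecializes (h'.trans h)).hom ≤
      (maximalIdeal (X.presheaf.stalk x')).comap (X.presheaf.stalkSpecializes h).hom := by
  intro b hb
  refine (mem_maximalIdeal _).2 fun hu => (mem_maximalIdeal _).1 (Ideal.mem_comap.1 hb) ?_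
  rw [show X.presheaf.stalkSpecializes (h'.trans h) =
    X.presheaf.stalkSpecializes h ≫ X.presheaf.stalkSpecializes h' from
      (TopCat.Presheaf.stalkSpecializes_comp _ h' h).symm]
  exact hu.map (X.presheaf.stalkSpecializes h').hom

/-- The two points over a one-dimensional normal local ring. -/
theorem eq_or_isMaximalPoint {y z : Y} [IsDomain (Y.presheaf.stalk y)] (hdim : ringKrullDim (Y.presheaf.stalk y) ≤ 1)
    (h : z ⤳ y) : z = y ∨ ∀ w : Y, w ⤳ z → w = z := by
  by_contra hcon
  push Not at hcon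
  obtain ⟨hzy, w, hwz, hw⟩ := hcon
  obtain ⟨q, rfl⟩ : z ∈ Set.range (Y.fromSpecStalk y) := by rw [Scheme.range_fromSpecStalk]; exact h
  obtain ⟨r, rfl⟩ : w ∈ Set.range (Y.fromSpecStalk y) := by rw [Scheme.range_fromSpecStalk]; exact hwz.trans h
  haveI : Ring.KrullDimLE 1 (Y.presheaf.stalk y) := Ring.krullDimLE_iff.2 (by simpa using hdim)
  have hrq : r.asIdeal ≤ q.asIdeal := (PrimeSpectrum.le_iff_specializes r q).2
    ((Y.fromSpecStalk y).isEmbedding.isInducing.specializes_iff.1 hwz)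
  have hne : r ≠ q := fun e => hw (by rw [e])
  have hq0 : q.asIdeal ≠ ⊥ := fun e => hne (PrimeSpectrum.ext ((le_bot_iff.1 (hrq.trans_eq e)).trans e.symm))
  refine hzy ?_
  have : q = closedPoint (Y.presheaf.stalk y) := PrimeSpectrum.ext (eq_maximalIdeal (q.2.isMaximal_of_ne_bot hq0))
  rw [this, Scheme.fromSpecStalk_closedPoint]

/-- The uniformizer is invertible off the closed point. -/
theorem isUnit_stalkSpecializes {y z : Y} [IsDomain (Y.presheaf.stalk y)] (hdim : ringKrullDim (Y.presheaf.stalk y) ≤ 1)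
    (h : z ⤳ y) (hzy : z ≠ y) {t : Y.presheaf.stalk y} (ht : t ≠ 0) : IsUnit (Y.presheaf.stalkSpecializes h t) := by
  by_contra hu
  let P : Ideal (Y.presheaf.stalk y) := (maximalIdeal (Y.presheaf.stalk z)).comap (Y.presheaf.stalkSpecializes h).hom
  haveI : Ring.KrullDimLE 1 (Y.presheaf.stalk y) := Ring.krullDimLE_iff.2 (by simpa using hdim)
  have hP : P = maximalIdeal _ := eq_maximalIdeal ((inferInstance : P.IsPrime).isMaximal_of_ne_bot fun e =>
    ht ((Submodule.mem_bot _).1 (e ▸ (show t ∈ P from (mem_maximalIdeal _).2 hu))))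
  have e : (Spec.map (Y.presheaf.stalkSpecializes h)) (closedPoint (Y.presheaf.stalk z)) =
      closedPoint (Y.presheaf.stalk y) := PrimeSpectrum.ext hP
  refine hzy ?_
  have := congrArg (Y.fromSpecStalk y) e
  rwa [← Scheme.Hom.comp_apply, Scheme.SpecMap_stalkSpecializes_fromSpecStalk, Scheme.fromSpecStalk_closedPoint,
    Scheme.fromSpecStalk_closedPoint] at this

/-- A normal point of depth at most one has dimension at most one. -/
theorem ringKrullDim_le_one_of_depth_le_one [IsLocallyNoetherian Y] (hY : Pi1.IsNormalScheme Y) (y : Y)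
    (h : LocCoh.depth (Y.presheaf.stalk y) (Y.presheaf.stalk y) ≤ 1) :
    ringKrullDim (Y.presheaf.stalk y) ≤ 1 := by
  obtain ⟨hd, hi⟩ := hY y
  haveI := hd
  haveI := hi
  by_contra hgt
  rw [not_le, ← IsLocalRing.maximalIdeal_height_eq_ringKrullDim] at hgt
  obtain ⟨a, b, ha, hb, hab⟩ := GrothLib.NormalSerre.exists_pair_of_isIntegrallyClosed (A := Y.presheaf.stalk y)
    (by exact_mod_cast hgt)
  have h2 : (2 : ℕ∞) ≤ LocCoh.depth (Y.presheaf.stalk y) (Y.presheaf.stalk y) := by
    rw [LocCoh.depth, LocCoh.idealDepth]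
    split_ifs
    · exact le_top
    · exact le_iSup₂_of_le [a, b] ⟨hab, fun r hr => by simp at hr; rcases hr with rfl | rfl <;> assumption⟩ (by simp)
  exact absurd (h2.trans h) (by norm_num)

/-- Fibres have no embedded associated points. -/
def NoEmbedded (f : X ⟶ Y) (y : Y) : Prop :=
  ∀ z z' : ↥(f.fiber y),
    IsAssociatedPrime (maximalIdeal ↑((f.fiber y).presheaf.stalk z)) ↑((f.fiber y).presheaf.stalk z) →
    IsAssociatedPrime (maximalIdeal ↑((f.fiber y).presheaf.stalk z')) ↑((f.fiber y).presheaf.stalk z') →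
    z' ⤳ z → z' = z

/-- Associated primes of the quotient of a local ring by the base uniformizer are minimal. -/
theorem minimal_of_isAssociatedPrime [IsLocallyNoetherian X] {y : Y} (hfib : NoEmbedded f y) {x : X} (hxy : f x = y)
    (t : Y.presheaf.stalk (f x)) (ht : maximalIdeal _ = Ideal.span {t})
    (P : Ideal (X.presheaf.stalk x))
    (hP : IsAssociatedPrime P (X.presheaf.stalk x ⧸ Ideal.span {f.stalkMap x t})) :
    P ∈ (Ideal.span {f.stalkMap x t}).minimalPrimes := by
  subst hxy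
  let τ := f.stalkMap x t
  have hτP : ∀ Q : Ideal (X.presheaf.stalk x), IsAssociatedPrime Q (X.presheaf.stalk x ⧸ Ideal.span {τ}) → τ ∈ Q := by
    intro Q hQ
    obtain ⟨-, w, rfl⟩ := isAssociatedPrime_iff.1 hQ
    rw [Submodule.mem_colon_singleton, Submodule.mem_bot]
    obtain ⟨w, rfl⟩ := Ideal.Quotient.mk_surjective w
    exact Ideal.Quotient.eq_zero_iff_mem.2 (Ideal.mul_mem_right _ _ (Ideal.mem_span_singleton_self τ))
  -- the fibre point of an associated prime
  have key : ∀ Q : Ideal (X.presheaf.stalk x), IsAssociatedPrime Q (X.presheaf.stalk x ⧸ Ideal.span {τ}) →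
      ∃ (x' : X) (h : x' ⤳ x) (z : f.fiber (f x)), Q = (maximalIdeal (X.presheaf.stalk x')).comap
        (X.presheaf.stalkSpecializes h).hom ∧ f.fiberι (f x) z = x' ∧
        IsAssociatedPrime (maximalIdeal ((f.fiber (f x)).presheaf.stalk z)) ((f.fiber (f x)).presheaf.stalk z) := by
    intro Q hQ
    haveI := hQ.1
    obtain ⟨x', h, hQe, hx'⟩ := exists_specializes_eq x Q
    have hfx : f x' = f x := by
      by_contra hne
      have hspec : f x' ⤳ f x := h.map f.continuous
      obtain ⟨q, hq⟩ : f x' ∈ Set.range (Y.fromSpecStalk (f x)) := by rw [Scheme.range_fromSpecStalk]; exact hspec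
      have : t ∈ q.asIdeal := by
        have h1 : Spec.map (f.stalkMap x) ⟨Q, hQ.1⟩ = q := by
          refine (Y.fromSpecStalk (f x)).isEmbedding.injective ?_
          rw [← Scheme.Hom.comp_apply, Scheme.SpecMap_stalkMap_fromSpecStalk, Scheme.Hom.comp_apply, ← hx', hq]
        rw [← h1]
        exact hτP Q hQ
      have hq' : q = closedPoint _ := PrimeSpectrum.ext (le_antisymm (le_maximalIdeal q.2.ne_top)
        (ht.trans_le ((Ideal.span_singleton_le_iff_mem _).2 this)))
      rw [hq', Scheme.fromSpecStalk_closedPoint] at hq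
      exact hne hq.symm
    obtain ⟨z, hz⟩ : x' ∈ Set.range (f.fiberι (f x)) := by rw [Scheme.Hom.range_fiberι]; exact hfx
    refine ⟨x', h, z, hQe, hz, ?_⟩
    subst hz
    obtain ⟨-, w, hw⟩ := isAssociatedPrime_iff.1 hQ
    obtain ⟨w, rfl⟩ := Ideal.Quotient.mk_surjective w
    let σ := (X.presheaf.stalkSpecializes h).hom
    obtain ⟨hsur, hker⟩ := GrothLib.FibreFlat.fiberι_stalkMap f (f x) z
    let π := ((f.fiberι (f x)).stalkMap z).hom
    haveI : IsNoetherianRing ((f.fiber (f x)).presheaf.stalk z) := isNoetherianRing_of_surjective _ _ π hsur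
    let x' := f.fiberι (f x) z
    have hspec : f x' ⤳ f x := h.map f.continuous
    have hσ : σ τ = f.stalkMap x' (Y.presheaf.stalkSpecializes hspec t) :=
      (Scheme.Hom.stalkSpecializes_stalkMap_apply f x' x h t).symm
    have hmax : (maximalIdeal (Y.presheaf.stalk (f x'))).map (f.stalkMap x').hom = Ideal.span {σ τ} := by
      have hbij : Function.Bijective (Y.presheaf.stalkSpecializes hspec) :=
        ConcreteCategory.bijective_of_isIso (Y.presheaf.stalkCongr (Inseparable.of_eq hfx.symm)).hom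
      have : maximalIdeal (Y.presheaf.stalk (f x')) = Ideal.span {Y.presheaf.stalkSpecializes hspec t} := by
        have := (RingEquiv.ofBijective (Y.presheaf.stalkSpecializes hspec).hom hbij).toRingHom
        refine le_antisymm (fun a ha => ?_) ((Ideal.span_singleton_le_iff_mem _).2 ((mem_maximalIdeal _).2 fun hu => ?_))
        · obtain ⟨b, rfl⟩ := hbij.2 a
          have hb : b ∈ Ideal.span {t} := ht ▸ (mem_maximalIdeal _).2 fun hu =>
            (mem_maximalIdeal _).1 ha (hu.map (Y.presheaf.stalkSpecializes hspec).hom)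
          have := Ideal.mem_map_of_mem (Y.presheaf.stalkSpecializes hspec).hom hb
          rwa [Ideal.map_span, Set.image_singleton] at this
        · have htm : t ∈ maximalIdeal _ := ht.ge (Ideal.mem_span_singleton_self t)
          exact (mem_maximalIdeal _).1 htm (isUnit_of_map_unit
            (RingEquiv.ofBijective (Y.presheaf.stalkSpecializes hspec).hom hbij) t hu)
      rw [this, Ideal.map_span, Set.image_singleton, hσ]
    rw [isAssociatedPrime_iff]
    refine ⟨(maximalIdeal.isMaximal _).isPrime, π (σ w), le_antisymm (fun a ha => ?_) (fun a ha => ?_)⟩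
    · obtain ⟨r, rfl⟩ := hsur a
      have hr : r ∈ maximalIdeal (X.presheaf.stalk x') := (mem_maximalIdeal _).2 fun hu =>
        (mem_maximalIdeal _).1 ha (hu.map π)
      obtain ⟨V, hx, -⟩ := exists_affine_mem_le (W := (⊤ : X.Opens)) (x := x) trivial
      have hxV' : x' ∈ V.1 := h.mem_open V.1.2 hx
      let _ := TopCat.Presheaf.algebra_section_stalk X.presheaf (⟨x', hxV'⟩ : V.1)
      haveI := V.2.isLocalization_stalk ⟨x', hxV'⟩
      obtain ⟨r₁, s, rfl⟩ := IsLocalization.exists_mk'_eq (V.2.primeIdealOf ⟨x', hxV'⟩).asIdeal.primeCompl r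
      have hgerm : algebraMap Γ(X, V.1) (X.presheaf.stalk x') r₁ = σ (X.presheaf.germ V.1 x hx r₁) :=
        (TopCat.Presheaf.germ_stalkSpecializes_apply _ hx h r₁).symm
      have hr₁ : X.presheaf.germ V.1 x hx r₁ ∈ Q := by
        rw [hQe, Ideal.mem_comap]
        change σ _ ∈ _
        rw [← hgerm, ← IsLocalization.mk'_spec (X.presheaf.stalk x') r₁ s]
        exact Ideal.mul_mem_right _ _ hr
      rw [hw, Submodule.mem_colon_singleton, Submodule.mem_bot] at hr₁
      have hr₂ : σ (X.presheaf.germ V.1 x hx r₁) * σ w ∈ Ideal.span {σ τ} := by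
        rw [← map_mul, ← Set.image_singleton, ← Ideal.map_span]
        exact Ideal.mem_map_of_mem _ (Ideal.Quotient.eq_zero_iff_mem.1 hr₁)
      rw [Submodule.mem_colon_singleton, Submodule.mem_bot, smul_eq_mul, ← map_mul, ← RingHom.mem_ker, hker, hmax]
      refine (Ideal.mul_unit_mem_iff_mem _ (IsLocalization.map_units (X.presheaf.stalk x') s)).1 ?_
      rw [mul_right_comm, IsLocalization.mk'_spec, hgerm]
      exact hr₂
    · refine (mem_maximalIdeal _).2 fun hu => ?_
      rw [Submodule.mem_colon_singleton, Submodule.mem_bot, smul_eq_mul, hu.mul_right_eq_zero, ← RingHom.mem_ker,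
        hker, hmax] at ha
      obtain ⟨v, hv, hvw⟩ := exists_of_mem_span_stalkSpecializes h ha
      refine hv (hQe ▸ ?_)
      rw [hw, Submodule.mem_colon_singleton, Submodule.mem_bot]
      exact Ideal.Quotient.eq_zero_iff_mem.2 hvw
  haveI := hP.1
  obtain ⟨P₀, hP₀, hle⟩ := Ideal.exists_minimalPrimes_le (I := Ideal.span {τ}) (J := P)
    ((Ideal.span_singleton_le_iff_mem _).2 (hτP P hP))
  have hann : Module.annihilator (X.presheaf.stalk x) (X.presheaf.stalk x ⧸ Ideal.span {τ}) = Ideal.span {τ} :=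
    Ideal.annihilator_quotient
  haveI := hP₀.1.1
  have hA₀ : IsAssociatedPrime P₀ (X.presheaf.stalk x ⧸ Ideal.span {τ}) :=
    Module.associatedPrimes.minimalPrimes_annihilator_subset_associatedPrimes _ _ (by rw [hann]; exact hP₀)
  haveI := hP₀.1.1
  obtain ⟨x₁, h₁, z₁, e₁, hz₁, a₁⟩ := key P hP
  obtain ⟨x₀, h₀, z₀, e₀, hz₀, a₀⟩ := key P₀ hA₀
  have hsp : x₀ ⤳ x₁ := by
    have hs : (⟨P₀, hA₀.1⟩ : Spec (X.presheaf.stalk x)) ⤳ ⟨P, hP.1⟩ := (PrimeSpectrum.le_iff_specializes _ _).1 hle
    have hpt : ∀ (x' : X) (h : x' ⤳ x) (Q : Ideal _) (hQ : Q.IsPrime),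
        Q = (maximalIdeal (X.presheaf.stalk x')).comap (X.presheaf.stalkSpecializes h).hom →
        X.fromSpecStalk x ⟨Q, hQ⟩ = x' := by
      rintro x' h Q hQ rfl
      change X.fromSpecStalk x (Spec.map (X.presheaf.stalkSpecializes h) (closedPoint _)) = x'
      rw [← Scheme.Hom.comp_apply, Scheme.SpecMap_stalkSpecializes_fromSpecStalk, Scheme.fromSpecStalk_closedPoint]
    have := hs.map (X.fromSpecStalk x).continuous
    rwa [hpt x₀ h₀ P₀ hA₀.1 e₀, hpt x₁ h₁ P hP.1 e₁] at this
  have hz : z₀ = z₁ := hfib z₁ z₀ a₁ a₀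
    ((f.fiberι (f x)).isEmbedding.isInducing.specializes_iff.1 (by rw [hz₀, hz₁]; exact hsp))
  have : P = P₀ := by
    subst hz
    subst hz₁
    subst hz₀
    rw [e₀, e₁]
  exact this ▸ hP₀

/-- Principality at a point of dimension at most one from the orders at the generic points of the fibre. -/
theorem stalkPrincipal_of_orders [IsLocallyNoetherian X] [IsLocallyNoetherian Y] [Flat f]
    (hY : Pi1.IsNormalScheme Y) (hJ : BlowUp.IsEffCartierIdeal 𝓙)
    (hmax : ∀ η : Y, (∀ z : Y, z ⤳ η → z = η) → ∀ x : X, f x = η → stalkIdeal 𝓙 x = ⊤)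
    (hord : ∀ y : Y, ringKrullDim (Y.presheaf.stalk y) = 1 → NoEmbedded f y ∧
      ∃ n : ℕ, ∀ t : Y.presheaf.stalk y, maximalIdeal (Y.presheaf.stalk y) = Ideal.span {t} →
        ∀ (x : X) (hx : f x = y), (∀ z : X, f z = y → z ⤳ x → z = x) →
          stalkIdeal 𝓙 x = Ideal.span {((Y.presheaf.stalkSpecializes (specializes_of_eq hx) ≫ f.stalkMap x) t) ^ n})
    (y : Y) (hy : LocCoh.depth (Y.presheaf.stalk y) (Y.presheaf.stalk y) ≤ 1) : StalkPrincipal f 𝓙 y := by
  have hdim := ringKrullDim_le_one_of_depth_le_one hY y hy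
  obtain ⟨hdom, hint⟩ := hY y
  haveI := hdom
  haveI := hint
  by_cases hm : ∀ z : Y, z ⤳ y → z = y
  · refine ⟨1, fun x hx => ?_⟩
    rw [map_one, Ideal.span_singleton_one]
    exact hmax (f x) (fun z hz => (hm _ (hz.trans hx)).trans (hm _ hx).symm) x rfl
  have hnf : ¬ IsField (Y.presheaf.stalk y) := fun hf => hm fun z hz => by
    letI := hf.toField
    obtain ⟨q, rfl⟩ : z ∈ Set.range (Y.fromSpecStalk y) := by rw [Scheme.range_fromSpecStalk]; exact hz
    have e : q = closedPoint (Y.presheaf.stalk y) := Subsingleton.elim (α := PrimeSpectrum (Y.presheaf.stalk y)) _ _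
    rw [e, Scheme.fromSpecStalk_closedPoint]
  have hdim1 : ringKrullDim (Y.presheaf.stalk y) = 1 := by
    have h0 : ¬ ringKrullDim (Y.presheaf.stalk y) ≤ 0 := fun h => by
      have : Ring.KrullDimLE 0 (Y.presheaf.stalk y) := Ring.krullDimLE_iff.2 h
      exact hnf Ring.KrullDimLE.isField_of_isDomain
    exact le_antisymm hdim (Order.succ_le_of_lt (lt_of_not_ge h0))
  haveI : IsDiscreteValuationRing (Y.presheaf.stalk y) := by
    haveI : Ring.KrullDimLE 1 (Y.presheaf.stalk y) := Ring.krullDimLE_iff.2 (by simpa using hdim)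
    refine (((IsDiscreteValuationRing.TFAE (Y.presheaf.stalk y) hnf).out 0 3) :
      IsDiscreteValuationRing (Y.presheaf.stalk y) ↔ IsIntegrallyClosed (Y.presheaf.stalk y) ∧
        ∃! P : Ideal (Y.presheaf.stalk y), P ≠ ⊥ ∧ P.IsPrime).2 ⟨inferInstance, ?_⟩
    refine ⟨maximalIdeal _, ⟨fun e => hnf (isField_iff_maximalIdeal_eq.2 e), inferInstance⟩, fun Q hQ => ?_⟩
    haveI := hQ.2
    exact eq_maximalIdeal (hQ.2.isMaximal_of_ne_bot hQ.1)
  obtain ⟨t, ht⟩ := IsDiscreteValuationRing.exists_irreducible (Y.presheaf.stalk y)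
  have htm : maximalIdeal _ = Ideal.span {t} := ht.maximalIdeal_eq
  obtain ⟨hfib, n, hn⟩ := hord y hdim1
  refine ⟨t ^ n, fun x hx => ?_⟩
  rw [map_pow]
  by_cases hxy : f x = y
  swap
  · rw [hmax (f x) ((eq_or_isMaximalPoint hdim hx).resolve_left hxy) x rfl, eq_comm, Ideal.span_singleton_eq_top]
    exact ((isUnit_stalkSpecializes hdim hx hxy ht.ne_zero).map (f.stalkMap x).hom).pow n
  subst hxy
  have hid : Y.presheaf.stalkSpecializes hx = 𝟙 _ := TopCat.Presheaf.stalkSpecializes_refl _ _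
  rw [hid, Category.id_comp]
  obtain ⟨γ, hγ, hJx⟩ := exists_stalk_generator hJ x
  rw [hJx]
  let τ := f.stalkMap x t
  have hτ : τ ∈ nonZeroDivisors (X.presheaf.stalk x) :=
    GrothLib.BlowUp.mem_nonZeroDivisors_of_flat (f.stalkMap x).hom (Flat.stalkMap f x)
      (mem_nonZeroDivisors_of_ne_zero ht.ne_zero)
  refine span_eq_span_pow hτ n (fun P hP => minimal_of_isAssociatedPrime hfib rfl t htm P hP) (fun P hP => ?_)
    fun P hP hτP => ?_
  · haveI := hP.1.1
    obtain ⟨x', h, hPe, hx'⟩ := exists_specializes_eq x P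
    have hτ' : τ ∈ P := hP.1.2 (Ideal.mem_span_singleton_self τ)
    have hfx : f x' = f x := by
      by_contra hne
      refine (mem_maximalIdeal _).1 (Ideal.mem_comap.1 (hPe ▸ hτ')) ?_
      change IsUnit (X.presheaf.stalkSpecializes h (f.stalkMap x t))
      rw [← Scheme.Hom.stalkSpecializes_stalkMap_apply f x' x h t]
      exact (isUnit_stalkSpecializes hdim _ hne ht.ne_zero).map (f.stalkMap x').hom
    have hminx : ∀ z : X, f z = f x → z ⤳ x' → z = x' := by
      intro z hz hzx
      by_contra hne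
      have hle := comap_maximalIdeal_le hzx h
      rw [← hPe] at hle
      have hτz : τ ∈ (maximalIdeal (X.presheaf.stalk z)).comap (X.presheaf.stalkSpecializes (hzx.trans h)).hom := by
        refine (mem_maximalIdeal _).2 fun hu => ?_
        change IsUnit (X.presheaf.stalkSpecializes (hzx.trans h) (f.stalkMap x t)) at hu
        rw [← Scheme.Hom.stalkSpecializes_stalkMap_apply f z x (hzx.trans h) t] at hu
        have hu' := isUnit_of_map_unit (f.stalkMap z).hom _ hu
        have hbij : Function.Bijective (Y.presheaf.stalkSpecializes ((hzx.trans h).map f.continuous)) :=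
          ConcreteCategory.bijective_of_isIso (Y.presheaf.stalkCongr (Inseparable.of_eq hz.symm)).hom
        exact ht.not_isUnit (isUnit_of_map_unit (RingEquiv.ofBijective
          (Y.presheaf.stalkSpecializes ((hzx.trans h).map f.continuous)).hom hbij) t hu')
      have heq : (maximalIdeal (X.presheaf.stalk z)).comap (X.presheaf.stalkSpecializes (hzx.trans h)).hom = P :=
        le_antisymm hle (hP.2 ⟨inferInstance, (Ideal.span_singleton_le_iff_mem _).2 hτz⟩ hle)
      refine hne (?_ : z = x')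
      rw [hx']
      have : (Spec.map (X.presheaf.stalkSpecializes (hzx.trans h))) (closedPoint _) = ⟨P, hP.1.1⟩ :=
        PrimeSpectrum.ext heq
      rw [← this, ← Scheme.Hom.comp_apply, Scheme.SpecMap_stalkSpecializes_fromSpecStalk,
        Scheme.fromSpecStalk_closedPoint]
    have e := hn t htm x' hfx hminx
    rw [← stalkIdeal_map_specializes 𝓙 h, hJx, Ideal.map_span, Set.image_singleton] at e
    have hτe : (Y.presheaf.stalkSpecializes (specializes_of_eq hfx) ≫ f.stalkMap x') t =
        X.presheaf.stalkSpecializes h τ := Scheme.Hom.stalkSpecializes_stalkMap_apply f x' x h t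
    rw [hτe, ← map_pow] at e
    rw [hPe]
    exact ⟨exists_of_mem_span_stalkSpecializes h (e ▸ Ideal.mem_span_singleton_self _),
      exists_of_mem_span_stalkSpecializes h (e ▸ Ideal.mem_span_singleton_self _)⟩
  · haveI := hP
    obtain ⟨x', h, hPe, -⟩ := exists_specializes_eq x P
    intro hγP
    have hne : f x' ≠ f x := fun e => hτP (by
      rw [hPe]
      refine (mem_maximalIdeal _).2 fun hu => ?_
      change IsUnit (X.presheaf.stalkSpecializes h (f.stalkMap x t)) at hu
      rw [← Scheme.Hom.stalkSpecializes_stalkMap_apply f x' x h t] at hu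
      have hu' := isUnit_of_map_unit (f.stalkMap x').hom _ hu
      have hbij : Function.Bijective (Y.presheaf.stalkSpecializes (h.map f.continuous)) :=
        ConcreteCategory.bijective_of_isIso (Y.presheaf.stalkCongr (Inseparable.of_eq e.symm)).hom
      exact ht.not_isUnit (isUnit_of_map_unit (RingEquiv.ofBijective
        (Y.presheaf.stalkSpecializes (h.map f.continuous)).hom hbij) t hu'))
    have htop := hmax (f x') ((eq_or_isMaximalPoint hdim (h.map f.continuous)).resolve_left hne) x' rfl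
    rw [← stalkIdeal_map_specializes 𝓙 h, hJx, Ideal.map_span, Set.image_singleton, Ideal.span_singleton_eq_top] at htop
    exact (mem_maximalIdeal _).1 (Ideal.mem_comap.1 (hPe ▸ hγP)) htop

end GrothLib.CartierDescent
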