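import Groth.Agent.Lib.CartierDescent.Conditions

/-!
# Descent of effective Cartier divisors over normal schemes
-/

set_option autoImplicit false
set_option backward.isDefEq.respectTransparency false
set_option backward.isDefEq.respectTransparency.types false

universe u

open CategoryTheory CategoryTheory.Limits AlgebraicGeometry TopologicalSpace IsLocalRing

namespace GrothLib.CartierDescent

open GrothLib.BlowUp (exists_affine_mem_le ideal_comap_eq_map)

variable {X Y : Scheme.{u}} {f : X ⟶ Y} {𝓙 : X.IdealSheafData}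

theorem comap_fiberι_eq_top_iff (η : Y) :
    𝓙.comap (f.fiberι η) = ⊤ ↔ ∀ x : X, f x = η → stalkIdeal 𝓙 x = ⊤ := by
  rw [← Scheme.IdealSheafData.support_eq_bot_iff, Scheme.IdealSheafData.support_comap]
  constructor
  · intro h x hx
    rw [stalkIdeal_eq_top_iff]
    intro hxs
    obtain ⟨z, rfl⟩ : x ∈ Set.range (f.fiberι η) := by rw [Scheme.Hom.range_fiberι]; exact hx
    have h1 := congrArg (fun C : Closeds (f.fiber η) => z ∈ C) h
    exact (h1.mp hxs : z ∈ (⊥ : Closeds (f.fiber η)))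
  · intro h
    refine le_bot_iff.1 fun z hz => ?_
    have hz' : f.fiberι η z ∈ 𝓙.support := hz
    exact ((stalkIdeal_eq_top_iff 𝓙 _).1 (h _ (GrothLib.FibreFlat.fiberι_comp_apply f η z)) hz').elim

theorem stalkIdeal_comap (𝓘 : Y.IdealSheafData) (f : X ⟶ Y) (x : X) :
    stalkIdeal (𝓘.comap f) x = (stalkIdeal 𝓘 (f x)).map (f.stalkMap x).hom := by
  obtain ⟨U, hU, -⟩ := exists_affine_mem_le (W := (⊤ : Y.Opens)) (x := f x) trivial
  obtain ⟨V, hV, hVU⟩ := exists_affine_mem_le (W := f ⁻¹ᵁ U.1) (x := x) hU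
  rw [stalkIdeal_eq _ V hV, stalkIdeal_eq 𝓘 U hU, ideal_comap_eq_map 𝓘 f U V hVU, Ideal.map_map, Ideal.map_map]
  refine congrArg (fun φ => (𝓘.ideal U).map φ) (RingHom.ext fun z => ?_)
  change X.presheaf.germ V.1 x hV ((X.presheaf.map (homOfLE hVU).op) (f.app U.1 z)) =
    f.stalkMap x (Y.presheaf.germ U.1 (f x) hU z)
  rw [TopCat.Presheaf.germ_res_apply, Scheme.Hom.germ_stalkMap_apply]

theorem isField_stalk_of_maximal {η : Y} [IsDomain (Y.presheaf.stalk η)] (h : ∀ z : Y, z ⤳ η → z = η) :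
    IsField (Y.presheaf.stalk η) := by
  rw [isField_iff_maximalIdeal_eq]
  have e : (⟨⊥, Ideal.isPrime_bot⟩ : Spec (Y.presheaf.stalk η)) = closedPoint (Y.presheaf.stalk η) := by
    refine (Y.fromSpecStalk η).isEmbedding.injective ?_
    rw [Scheme.fromSpecStalk_closedPoint]
    refine h _ ?_
    have := Set.mem_range_self (f := Y.fromSpecStalk η) (⟨⊥, Ideal.isPrime_bot⟩ : Spec (Y.presheaf.stalk η))
    rwa [Scheme.range_fromSpecStalk] at this
  exact (congrArg PrimeSpectrum.asIdeal e).symm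

theorem stalkIdeal_eq_top_of_descent (hY : Pi1.IsNormalScheme Y) {𝓘 : Y.IdealSheafData}
    (h : BlowUp.IsEffCartierIdeal 𝓘) (e : 𝓘.comap f = 𝓙) (η : Y) (hη : ∀ z : Y, z ⤳ η → z = η) (x : X)
    (hx : f x = η) : stalkIdeal 𝓙 x = ⊤ := by
  subst hx
  haveI := (hY (f x)).1
  obtain ⟨γ, hγ, hI⟩ := exists_stalk_generator h (f x)
  rw [← e, stalkIdeal_comap, hI, Ideal.map_span, Set.image_singleton, Ideal.span_singleton_eq_top]
  letI := (isField_stalk_of_maximal hη).toField
  exact ((IsUnit.mk0 γ (nonZeroDivisors.ne_zero hγ))).map (f.stalkMap x).hom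

theorem ideal_comap_fromSpecStalk_iff (x : X) (b : X.presheaf.stalk x) :
    (𝓙.comap (X.fromSpecStalk x)).ideal ⟨⊤, isAffineOpen_top _⟩ =
        Ideal.span {(Scheme.ΓSpecIso (X.presheaf.stalk x)).inv b} ↔ stalkIdeal 𝓙 x = Ideal.span {b} := by
  let φ := Scheme.ΓSpecIso (X.presheaf.stalk x)
  constructor
  · intro h
    rw [stalkIdeal, h, Ideal.map_span, Set.image_singleton, ← CommRingCat.comp_apply, Iso.inv_hom_id,
      CommRingCat.id_apply]
  · intro h
    have h1 := congrArg (Ideal.map φ.inv.hom) h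
    rw [stalkIdeal, Ideal.map_map, ← CommRingCat.hom_comp, Iso.hom_inv_id, CommRingCat.hom_id, Ideal.map_id,
      Ideal.map_span, Set.image_singleton] at h1
    exact h1

theorem exists_order_of_descent [IsLocallyNoetherian Y] (hY : Pi1.IsNormalScheme Y) {𝓘 : Y.IdealSheafData}
    (h : BlowUp.IsEffCartierIdeal 𝓘) (e : 𝓘.comap f = 𝓙) (y : Y) (hdim : ringKrullDim (Y.presheaf.stalk y) = 1) :
    ∃ n : ℕ, ∀ t : Y.presheaf.stalk y, maximalIdeal _ = Ideal.span {t} → ∀ (x : X) (hx : f x = y),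
      stalkIdeal 𝓙 x = Ideal.span {((Y.presheaf.stalkSpecializes (specializes_of_eq hx) ≫ f.stalkMap x) t) ^ n} := by
  obtain ⟨hd, hi⟩ := hY y
  haveI := hd
  haveI := hi
  have hnf : ¬ IsField (Y.presheaf.stalk y) := (ringKrullDim_eq_one_iff_of_isLocalRing_isDomain.1 hdim).1
  haveI : Ring.KrullDimLE 1 (Y.presheaf.stalk y) := Ring.krullDimLE_iff.2 (by simp [hdim])
  haveI : IsDiscreteValuationRing (Y.presheaf.stalk y) := by
    refine (((IsDiscreteValuationRing.TFAE (Y.presheaf.stalk y) hnf).out 0 3) :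
      IsDiscreteValuationRing (Y.presheaf.stalk y) ↔ IsIntegrallyClosed (Y.presheaf.stalk y) ∧
        ∃! P : Ideal (Y.presheaf.stalk y), P ≠ ⊥ ∧ P.IsPrime).2 ⟨inferInstance, ?_⟩
    refine ⟨maximalIdeal _, ⟨fun e => hnf (isField_iff_maximalIdeal_eq.2 e), inferInstance⟩, fun Q hQ => ?_⟩
    exact eq_maximalIdeal (hQ.2.isMaximal_of_ne_bot hQ.1)
  obtain ⟨t₀, ht₀⟩ := IsDiscreteValuationRing.exists_irreducible (Y.presheaf.stalk y)
  obtain ⟨γ, hγ, hI⟩ := exists_stalk_generator h y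
  obtain ⟨n, u, rfl⟩ := IsDiscreteValuationRing.eq_unit_mul_pow_irreducible (nonZeroDivisors.ne_zero hγ) ht₀
  refine ⟨n, fun t ht x hx => ?_⟩
  subst hx
  have hid : Y.presheaf.stalkSpecializes (specializes_of_eq (rfl : f x = f x)) = 𝟙 _ :=
    TopCat.Presheaf.stalkSpecializes_refl _ _
  rw [hid, Category.id_comp, ← e, stalkIdeal_comap, hI, Ideal.span_singleton_mul_left_unit u.isUnit,
    ← Ideal.span_singleton_pow, ← ht₀.maximalIdeal_eq, ht, Ideal.span_singleton_pow, Ideal.map_span,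
    Set.image_singleton, map_pow]

theorem stalkIdeal_stalkCongr {y : Y} {x : X} (hx : f x = y) (t : Y.presheaf.stalk y) :
    (f.stalkMap x).hom ((Y.presheaf.stalkCongr (.of_eq hx.symm)).hom t) =
      (Y.presheaf.stalkSpecializes (specializes_of_eq hx) ≫ f.stalkMap x) t := rfl

theorem noEmbedded_of_isIntegral [IsLocallyNoetherian X] {y : Y} (h : IsIntegral (f.fiber y)) : NoEmbedded f y := by
  haveI := h
  have key : ∀ z : f.fiber y,
      IsAssociatedPrime (maximalIdeal ((f.fiber y).presheaf.stalk z)) ((f.fiber y).presheaf.stalk z) →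
      ∀ w, w ⤳ z → w = z := by
    intro z hz w hw
    haveI : IsNoetherianRing ((f.fiber y).presheaf.stalk z) :=
      isNoetherianRing_of_surjective _ _ ((f.fiberι y).stalkMap z).hom ((f.fiberι y).stalkMap_surjective z)
    obtain ⟨-, b, hb⟩ := isAssociatedPrime_iff.1 hz
    have hb0 : b ≠ 0 := fun h0 => (maximalIdeal.isMaximal ((f.fiber y).presheaf.stalk z)).ne_top
      (hb.trans (eq_top_iff.2 fun a _ => by
        rw [Submodule.mem_colon_singleton, Submodule.mem_bot, h0, smul_zero]))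
    have hm : maximalIdeal ((f.fiber y).presheaf.stalk z) = ⊥ := eq_bot_iff.2 fun a ha => by
      rw [hb, Submodule.mem_colon_singleton, Submodule.mem_bot, smul_eq_mul] at ha
      exact (mul_eq_zero.1 ha).resolve_right hb0
    obtain ⟨q, rfl⟩ : w ∈ Set.range ((f.fiber y).fromSpecStalk z) := by rw [Scheme.range_fromSpecStalk]; exact hw
    have e : q = closedPoint _ := PrimeSpectrum.ext
      ((le_antisymm (le_maximalIdeal q.2.ne_top) (hm.trans_le bot_le)) : q.asIdeal = maximalIdeal _)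
    rw [e, Scheme.fromSpecStalk_closedPoint]
  exact fun z z' hz _ h => key z hz z' h

theorem exists_order_of_isIntegral [IsLocallyNoetherian X] [Flat f] (hY : Pi1.IsNormalScheme Y)
    (hJ : BlowUp.IsEffCartierIdeal 𝓙) {y : Y} (hdim : ringKrullDim (Y.presheaf.stalk y) = 1)
    (h : IsIntegral (f.fiber y)) :
    ∃ n : ℕ, ∀ t : Y.presheaf.stalk y, maximalIdeal (Y.presheaf.stalk y) = Ideal.span {t} →
        ∀ (x : X) (hx : f x = y), (∀ z : X, f z = y → z ⤳ x → z = x) →
          stalkIdeal 𝓙 x = Ideal.span {((Y.presheaf.stalkSpecializes (specializes_of_eq hx) ≫ f.stalkMap x) t) ^ n} := by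
  haveI := h
  haveI := (hY y).1
  obtain ⟨z, hz⟩ : ∃ z, z = genericPoint (f.fiber y) := ⟨_, rfl⟩
  let ξ := f.fiberι y z
  have hξ : f ξ = y := GrothLib.FibreFlat.fiberι_comp_apply f y z
  have huniq : ∀ x : X, f x = y → (∀ w : X, f w = y → w ⤳ x → w = x) → x = ξ := by
    intro x hx hmin
    obtain ⟨w, rfl⟩ : x ∈ Set.range (f.fiberι y) := by rw [Scheme.Hom.range_fiberι]; exact hx
    exact (hmin ξ hξ ((hz ▸ genericPoint_specializes w).map (f.fiberι y).continuous)).symm
  by_cases hex : ∃ t : Y.presheaf.stalk y, maximalIdeal (Y.presheaf.stalk y) = Ideal.span {t}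
  swap
  · exact ⟨0, fun t ht => (hex ⟨t, ht⟩).elim⟩
  obtain ⟨t, ht⟩ := hex
  suffices main : ∀ (ξ : X) (_ : f ξ = y) (z : f.fiber y), z = genericPoint (f.fiber y) → f.fiberι y z = ξ →
      (∀ x : X, f x = y → (∀ w : X, f w = y → w ⤳ x → w = x) → x = ξ) →
      ∃ n : ℕ, ∀ t : Y.presheaf.stalk y, maximalIdeal (Y.presheaf.stalk y) = Ideal.span {t} →
        ∀ (x : X) (hx : f x = y), (∀ z : X, f z = y → z ⤳ x → z = x) →
          stalkIdeal 𝓙 x = Ideal.span {((Y.presheaf.stalkSpecializes (specializes_of_eq hx) ≫ f.stalkMap x) t) ^ n} from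
    main ξ hξ z hz rfl huniq
  clear huniq hξ ξ hz z
  intro ξ hξ
  subst hξ
  intro z hz hzξ huniq
  obtain ⟨γ, hγ, hJξ⟩ := exists_stalk_generator hJ ξ
  let τ := f.stalkMap ξ t
  obtain ⟨hsur, hker⟩ := GrothLib.FibreFlat.fiberι_stalkMap' f (f ξ) z ξ hzξ
  have hfield : IsField ((f.fiber (f ξ)).presheaf.stalk z) := by
    rw [hz]; exact Field.toIsField (f.fiber (f ξ)).functionField
  have hmax : maximalIdeal (X.presheaf.stalk ξ) = Ideal.span {τ} := by
    rw [← eq_maximalIdeal (Ideal.Quotient.maximal_of_isField _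
      ((RingHom.quotientKerEquivOfSurjective hsur).toMulEquiv.isField hfield)), hker, ht, Ideal.map_span,
      Set.image_singleton]
  have hτ : τ ∈ nonZeroDivisors (X.presheaf.stalk ξ) :=
    GrothLib.BlowUp.mem_nonZeroDivisors_of_flat (f.stalkMap ξ).hom (Flat.stalkMap f ξ)
      (mem_nonZeroDivisors_of_ne_zero fun h0 =>
        (ringKrullDim_eq_one_iff_of_isLocalRing_isDomain.1 hdim).1
          (isField_iff_maximalIdeal_eq.2 (by rw [ht, h0, Ideal.span_singleton_eq_bot.2 rfl])))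
  obtain ⟨n, hn⟩ : ∃ n, γ ∈ maximalIdeal (X.presheaf.stalk ξ) ^ n ∧ γ ∉ maximalIdeal (X.presheaf.stalk ξ) ^ (n + 1) := by
    by_contra hcon
    push Not at hcon
    have hall : ∀ n, γ ∈ maximalIdeal (X.presheaf.stalk ξ) ^ n := fun n => by
      induction n with
      | zero => simp
      | succ n ih => exact hcon n ih
    have : γ ∈ ⨅ n, maximalIdeal (X.presheaf.stalk ξ) ^ n := (Submodule.mem_iInf _).2 hall
    rw [Ideal.iInf_pow_eq_bot_of_isLocalRing _ (maximalIdeal.isMaximal _).ne_top, Submodule.mem_bot] at this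
    exact nonZeroDivisors.ne_zero hγ this
  rw [hmax, Ideal.span_singleton_pow, Ideal.span_singleton_pow, Ideal.mem_span_singleton'] at hn
  obtain ⟨⟨u, hu⟩, hn'⟩ := hn
  have huu : IsUnit u := by
    by_contra hnu
    obtain ⟨e, he⟩ := Ideal.mem_span_singleton'.1 (hmax ▸ (mem_maximalIdeal u).2 hnu)
    exact hn' (Ideal.mem_span_singleton'.2 ⟨e, by rw [← hu, ← he]; ring⟩)
  refine ⟨n, fun t' ht' x hx hmin => ?_⟩
  obtain rfl : ξ = x := (huniq x hx hmin).symm
  have hid : Y.presheaf.stalkSpecializes (specializes_of_eq hx) = 𝟙 _ := TopCat.Presheaf.stalkSpecializes_refl _ _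
  rw [hid, Category.id_comp, hJξ, ← hu, Ideal.span_singleton_mul_left_unit huu, ← Ideal.span_singleton_pow,
    ← Ideal.span_singleton_pow]
  congr 1
  have := congrArg (Ideal.map (f.stalkMap ξ).hom) (ht.symm.trans ht')
  rwa [Ideal.map_span, Ideal.map_span, Set.image_singleton, Set.image_singleton] at this

end GrothLib.CartierDescent
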