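import Mathlib

/-!
# Descent of locally principal regular ideals along flat algebras
-/

set_option autoImplicit false

universe u v w

open TensorProduct

namespace GrothLib.CartierDescent

variable {A : Type u} [CommRing A]

/-- The colon ideal by one element. -/
def colonE {R : Type*} [CommRing R] (I : Ideal R) (t : R) : Ideal R := Submodule.comap (LinearMap.mulLeft R t) I

/-- Colon ideals by finitely many elements commute with flat base change. -/
theorem mem_map_of_forall_mul_mem {B : Type v} [CommRing B] [Algebra A B] [Module.Flat A B] (I K : Ideal A)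
    {ι : Type w} [Finite ι] (t : ι → A) (hK : ∀ c, (∀ i, t i * c ∈ I) → c ∈ K) {y : B}
    (hy : ∀ i, algebraMap A B (t i) * y ∈ I.map (algebraMap A B)) : y ∈ K.map (algebraMap A B) := by
  classical
  have := Fintype.ofFinite ι
  let L : A →ₗ[A] ι → A ⧸ I := LinearMap.pi fun i => (Submodule.mkQ I).comp (LinearMap.mulLeft A (t i))
  have hL : L.lTensor B (y ⊗ₜ[A] (1 : A)) = 0 := by
    apply (TensorProduct.piRight A A B fun _ : ι => A ⧸ I).injective
    rw [LinearMap.lTensor_tmul, TensorProduct.piRight_apply, TensorProduct.piRightHom_tmul, map_zero]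
    funext i
    have hi : (1 : A ⧸ I) = Submodule.mkQ I 1 := rfl
    have h0 : (algebraMap A B (t i) * y) ⊗ₜ[A] (1 : A ⧸ I) = 0 := by
      rw [← Algebra.TensorProduct.quotIdealMapEquivTensorQuot_mk B I]
      exact (congrArg _ (Ideal.Quotient.eq_zero_iff_mem.2 (hy i))).trans (map_zero _)
    rw [Pi.zero_apply, ← h0, hi, ← Algebra.smul_def, TensorProduct.smul_tmul, ← map_smul]
    simp [L]
  obtain ⟨z, hz⟩ := (Module.Flat.lTensor_exact B (LinearMap.exact_subtype_ker_map L) (y ⊗ₜ[A] (1 : A))).1 hL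
  have hker : LinearMap.ker L ≤ K := fun c hc => hK c fun i => by
    have := congrFun (LinearMap.mem_ker.1 hc) i
    exact (Submodule.Quotient.mk_eq_zero I).1 this
  have key : ∀ z : B ⊗[A] LinearMap.ker L,
      TensorProduct.rid A B ((LinearMap.ker L).subtype.lTensor B z) ∈ K.map (algebraMap A B) := by
    intro z
    induction z using TensorProduct.induction_on with
    | zero => simp
    | add a b ha hb => rw [map_add, map_add]; exact add_mem ha hb
    | tmul b c =>
      rw [LinearMap.lTensor_tmul, TensorProduct.rid_tmul, Algebra.smul_def]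
      exact Ideal.mul_mem_right _ _ (Ideal.mem_map_of_mem _ (hker c.2))
  have := key z
  rwa [hz, TensorProduct.rid_tmul, one_smul] at this

/-- An element of the base avoiding a prime multiplies a finitely generated set into an ideal. -/
theorem exists_notMem_forall_mul_mem [IsNoetherianRing A] {p : Ideal A} [p.IsPrime] (I K : Ideal A)
    (h : ∀ c ∈ K, ∃ s, s ∉ p ∧ s * c ∈ I) : ∃ s, s ∉ p ∧ ∀ c ∈ K, s * c ∈ I := by
  classical
  obtain ⟨T, hT⟩ := IsNoetherian.noetherian K
  choose s hs hsc using fun c : T => h c.1 (hT ▸ Submodule.subset_span c.2)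
  refine ⟨∏ c, s c, fun hp => ?_, fun c hc => ?_⟩
  · obtain ⟨c, -, hc⟩ := (Ideal.IsPrime.prod_mem_iff).1 hp
    exact hs c hc
  · rw [← hT] at hc
    induction hc using Submodule.span_induction with
    | mem x hx => exact Ideal.mem_of_dvd _ (mul_dvd_mul_right (Finset.dvd_prod_of_mem _ (Finset.mem_univ ⟨x, hx⟩)) x) (hsc ⟨x, hx⟩)
    | zero => simp
    | add a b _ _ ha hb => rw [mul_add]; exact add_mem ha hb
    | smul r a _ ha => rw [smul_eq_mul, mul_left_comm]; exact Ideal.mul_mem_left _ _ ha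

/-- An element of the extension in a base changed colon ideal is carried into the smaller ideal by an
element of the base avoiding a prime. -/
theorem exists_notMem_mul_mem_map [IsNoetherianRing A] {B : Type v} [CommRing B] [Algebra A B]
    {p : Ideal A} [p.IsPrime] (I K : Ideal A) (h : ∀ c ∈ K, ∃ s, s ∉ p ∧ s * c ∈ I) :
    ∃ s, s ∉ p ∧ ∀ y ∈ K.map (algebraMap A B), algebraMap A B s * y ∈ I.map (algebraMap A B) := by
  obtain ⟨s, hs, hK⟩ := exists_notMem_forall_mul_mem I K h
  refine ⟨s, hs, fun y hy => ?_⟩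
  have hle : Ideal.span {s} * K ≤ I := Ideal.span_singleton_mul_le_iff.2 hK
  refine Ideal.map_mono (f := algebraMap A B) hle ?_
  rw [Ideal.map_mul, Ideal.map_span, Set.image_singleton]
  exact Ideal.mul_mem_mul (Ideal.mem_span_singleton_self _) hy

/-- A regular sequence of two elements at a prime, stated with elements of the ring. -/
def HasPairAt (p : Ideal A) : Prop :=
  ∃ x y, x ∈ p ∧ y ∈ p ∧ (∀ b, x * b = 0 → ∃ s, s ∉ p ∧ s * b = 0) ∧
    ∀ a b, y * a = x * b → ∃ s, s ∉ p ∧ s * a ∈ Ideal.span {x}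

variable {ι : Type w} {B : ι → Type v} [∀ j, CommRing (B j)] [∀ j, Algebra A (B j)] [∀ j, Module.Flat A (B j)]
  (g : ∀ j, B j)

/-- The elements of the base lying in all the given principal ideals. -/
noncomputable def famIdeal : Ideal A := ⨅ j, (Ideal.span {g j}).comap (algebraMap A (B j))

omit [∀ j, Module.Flat A (B j)] in
theorem mem_famIdeal {a : A} : a ∈ famIdeal g ↔ ∀ j, algebraMap A (B j) a ∈ Ideal.span {g j} := by
  simp [famIdeal, Submodule.mem_iInf]

/-- The ideals are locally given by one element of the base. -/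
def IsPrincipalAt (p : Ideal A) : Prop :=
  ∃ a, ∀ j, (∃ s, s ∉ p ∧ algebraMap A (B j) (s * a) ∈ Ideal.span {g j}) ∧
    ∃ s, s ∉ p ∧ algebraMap A (B j) s * g j ∈ Ideal.span {algebraMap A (B j) a}

variable [Finite ι] [IsNoetherianRing A] (hg : ∀ j, g j ∈ nonZeroDivisors (B j))
  (hd : ∀ p : Ideal A, p.IsPrime → HasPairAt p ∨ IsPrincipalAt g p)

include hg in
theorem exists_mul_mem_famIdeal_of_pair {p : Ideal A} [p.IsPrime] (h : HasPairAt p) {c : A}
    (hc : ∀ t ∈ p, t * c ∈ famIdeal g) : ∃ s, s ∉ p ∧ s * c ∈ famIdeal g := by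
  classical
  have := Fintype.ofFinite ι
  obtain ⟨x, y, hx, hy, h1, h2⟩ := h
  have key : ∀ j, ∃ s, s ∉ p ∧ algebraMap A (B j) (s * c) ∈ Ideal.span {g j} := by
    intro j
    obtain ⟨a, ha⟩ := Ideal.mem_span_singleton'.1 ((mem_famIdeal g).1 (hc x hx) j)
    obtain ⟨b, hb⟩ := Ideal.mem_span_singleton'.1 ((mem_famIdeal g).1 (hc y hy) j)
    rw [map_mul] at ha hb
    have hyx : algebraMap A (B j) y * a = algebraMap A (B j) x * b := by
      refine (mul_cancel_right_mem_nonZeroDivisors (hg j)).1 ?_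
      linear_combination (algebraMap A (B j) y) * ha - (algebraMap A (B j) x) * hb
    let K : Ideal A := colonE (Ideal.span {x}) y
    have haK : a ∈ K.map (algebraMap A (B j)) := by
      refine mem_map_of_forall_mul_mem (Ideal.span {x}) K (fun _ : Unit => y) (fun c hc => hc ()) fun _ => ?_
      rw [hyx]
      exact Ideal.mul_mem_right _ _ (Ideal.mem_map_of_mem _ (Ideal.mem_span_singleton_self x))
    obtain ⟨s₁, hs₁, hK₁⟩ := exists_notMem_mul_mem_map (B := B j) (p := p) (Ideal.span {x}) K fun e he => by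
      obtain ⟨e', he'⟩ := Ideal.mem_span_singleton'.1 (he : y * e ∈ Ideal.span {x})
      exact h2 e e' (he'.symm.trans (mul_comm _ _))
    have := hK₁ a haK
    rw [Ideal.map_span, Set.image_singleton, Ideal.mem_span_singleton'] at this
    obtain ⟨e, he⟩ := this
    let K₀ : Ideal A := colonE (⊥ : Ideal A) x
    have hmem : algebraMap A (B j) s₁ * algebraMap A (B j) c - g j * e ∈ K₀.map (algebraMap A (B j)) := by
      refine mem_map_of_forall_mul_mem ⊥ K₀ (fun _ : Unit => x) (fun c hc => hc ()) fun _ => ?_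
      rw [Ideal.map_bot, Ideal.mem_bot]
      linear_combination (-(algebraMap A (B j) s₁)) * ha - (g j) * he
    obtain ⟨s₂, hs₂, hK₂⟩ := exists_notMem_mul_mem_map (B := B j) (p := p) ⊥ K₀ fun b hb => by
      obtain ⟨s, hs, hsb⟩ := h1 b (Ideal.mem_bot.1 (hb : x * b ∈ (⊥ : Ideal A)))
      exact ⟨s, hs, Ideal.mem_bot.2 hsb⟩
    have h0 := hK₂ _ hmem
    rw [Ideal.map_bot, Ideal.mem_bot] at h0
    refine ⟨s₂ * s₁, fun hm => (‹p.IsPrime›.mem_or_mem hm).elim hs₂ hs₁,
      Ideal.mem_span_singleton'.2 ⟨algebraMap A (B j) s₂ * e, ?_⟩⟩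
    rw [map_mul, map_mul]
    linear_combination -h0
  choose s hs hsc using key
  refine ⟨∏ j, s j, fun hp => ?_, (mem_famIdeal g).2 fun j => ?_⟩
  · obtain ⟨j, -, hj⟩ := (Ideal.IsPrime.prod_mem_iff).1 hp
    exact hs j hj
  · exact Ideal.mem_of_dvd _ (map_dvd _ (mul_dvd_mul_right (Finset.dvd_prod_of_mem _ (Finset.mem_univ j)) c)) (hsc j)

include hg hd in
/-- The principal ideals are extended from the base. -/
theorem mem_map_famIdeal (j : ι) : g j ∈ (famIdeal g).map (algebraMap A (B j)) := by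
  classical
  have := Fintype.ofFinite ι
  let I : Ideal A := famIdeal g
  suffices h : ∀ p : Ideal A, p.IsPrime → ∃ s, s ∉ p ∧ algebraMap A (B j) s * g j ∈ I.map (algebraMap A (B j)) by
    by_contra hcon
    let T : Ideal A := (colonE (I.map (algebraMap A (B j))) (g j)).comap (algebraMap A (B j))
    have hT : T ≠ ⊤ := fun e => hcon (by
      have h1 : (1 : A) ∈ T := e ▸ Submodule.mem_top
      change g j * algebraMap A (B j) 1 ∈ I.map (algebraMap A (B j)) at h1
      rwa [map_one, mul_one] at h1)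
    obtain ⟨M, hM, hle⟩ := Ideal.exists_le_maximal T hT
    obtain ⟨s, hs, hsg⟩ := h M hM.isPrime
    exact hs (hle (show g j * algebraMap A (B j) s ∈ _ by rw [mul_comm]; exact hsg))
  intro p
  induction h : p.height using WellFoundedLT.induction generalizing p with
  | _ n IH => ?_
  intro hp
  rcases hd p hp with hpair | ⟨a, ha⟩
  · -- torsion
    obtain ⟨T, hT⟩ := IsNoetherian.noetherian p
    have hpow : ∀ t ∈ p, ∃ (s : A) (m : ℕ), s ∉ p ∧ algebraMap A (B j) (s * t ^ m) * g j ∈ I.map (algebraMap A (B j)) := by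
      intro t ht
      by_contra hcon
      push Not at hcon
      let K : Ideal A := (colonE (I.map (algebraMap A (B j))) (g j)).comap (algebraMap A (B j))
      let M : Submonoid A := p.primeCompl ⊔ Submonoid.powers t
      have hdisj : Disjoint (K : Set A) M := by
        rw [Set.disjoint_left]
        intro z hzK hzM
        obtain ⟨s, hs, _, ⟨m, rfl⟩, rfl⟩ := Submonoid.mem_sup.1 hzM
        exact hcon s m hs (by rw [mul_comm]; exact hzK)
      obtain ⟨P, hP, hKP, hPd⟩ := Ideal.exists_le_prime_disjoint K M hdisj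
      have hPp : P ≤ p := fun z hz => by
        by_contra hzp
        exact Set.disjoint_left.1 hPd hz ((le_sup_left : p.primeCompl ≤ M) hzp)
      have htP : t ∉ P := fun hz => Set.disjoint_left.1 hPd hz ((le_sup_right : _ ≤ M) (Submonoid.mem_powers t))
      have hlt : P < p := lt_of_le_of_ne hPp fun e => htP (e ▸ ht)
      haveI := hP
      haveI : p.IsPrime := hp
      obtain ⟨s, hs, hsg⟩ := IH P.height (h ▸ Ideal.height_strict_mono_of_isPrime hlt) P rfl hP
      exact hs (hKP (show g j * algebraMap A (B j) s ∈ _ by rw [mul_comm]; exact hsg))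
    choose s m hs hsm using fun t : T => hpow t.1 (hT ▸ Submodule.subset_span t.2)
    let s₀ := ∏ t, s t
    have hs₀ : s₀ ∉ p := fun hm => by
      obtain ⟨t, -, ht⟩ := (Ideal.IsPrime.prod_mem_iff).1 hm
      exact hs t ht
    let R : Ideal A := (colonE (I.map (algebraMap A (B j))) (algebraMap A (B j) s₀ * g j)).comap (algebraMap A (B j))
    have hR : p ≤ R.radical := by
      rw [← hT, Ideal.span_le]
      intro t ht
      refine ⟨m ⟨t, ht⟩, ?_⟩
      change algebraMap A (B j) s₀ * g j * algebraMap A (B j) (t ^ m ⟨t, ht⟩) ∈ I.map (algebraMap A (B j))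
      rw [mul_comm]
      rw [← mul_assoc, ← map_mul]
      refine Ideal.mem_of_dvd _ (mul_dvd_mul_right (map_dvd _ ?_) _) (hsm ⟨t, ht⟩)
      rw [mul_comm]
      exact mul_dvd_mul_left _ (Finset.dvd_prod_of_mem s (Finset.mem_univ _))
    obtain ⟨N, hN⟩ := Ideal.exists_pow_le_of_le_radical_of_fg hR (IsNoetherian.noetherian p)
    obtain ⟨s₁, hs₁, hK⟩ := exists_notMem_mul_mem_map (B := B j) (p := p) I
      (⨅ t : T, colonE I (t : A)) fun c hc => by
        refine exists_mul_mem_famIdeal_of_pair g hg hpair fun t ht => ?_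
        have hle : p ≤ colonE I c := by
          rw [← hT, Ideal.span_le]
          intro t' ht'
          change c * t' ∈ I
          rw [mul_comm]
          exact (Submodule.mem_iInf _).1 hc ⟨t', ht'⟩
        rw [mul_comm]
        exact hle ht
    have step : ∀ n, ∀ z : B j, (∀ t ∈ p ^ n, algebraMap A (B j) t * z ∈ I.map (algebraMap A (B j))) →
        ∃ s, s ∉ p ∧ algebraMap A (B j) s * z ∈ I.map (algebraMap A (B j)) := by
      intro n
      induction n with
      | zero => exact fun z hz => ⟨1, fun h1 => hp.one_notMem h1, by simpa using hz 1 (by simp)⟩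
      | succ n ih =>
        intro z hz
        obtain ⟨s, hs, hsz⟩ := ih (algebraMap A (B j) s₁ * z) fun t ht => by
          rw [mul_left_comm]
          refine hK _ (mem_map_of_forall_mul_mem I _ (fun t' : T => (t' : A))
            (fun c hc => (Submodule.mem_iInf _).2 fun t' => hc t') fun t' => ?_)
          rw [← mul_assoc, ← map_mul]
          refine hz _ ?_
          rw [pow_succ']
          exact Ideal.mul_mem_mul (hT ▸ Submodule.subset_span t'.2) ht
        refine ⟨s * s₁, fun hm => (hp.mem_or_mem hm).elim hs hs₁, ?_⟩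
        rwa [map_mul, mul_assoc]
    obtain ⟨s₂, hs₂, hsz⟩ := step N (algebraMap A (B j) s₀ * g j) fun t ht => by rw [mul_comm]; exact hN ht
    refine ⟨s₂ * s₀, fun hm => (hp.mem_or_mem hm).elim hs₂ hs₀, ?_⟩
    rwa [map_mul, mul_assoc]
  · choose s hs hsa using fun j => (ha j).1
    obtain ⟨s', hs', hsg⟩ := (ha j).2
    have haI : (∏ j, s j) * a ∈ I := (mem_famIdeal g).2 fun j =>
      Ideal.mem_of_dvd _ (map_dvd _ (mul_dvd_mul_right (Finset.dvd_prod_of_mem _ (Finset.mem_univ j)) a)) (hsa j)
    refine ⟨(∏ j, s j) * s', fun hm => (hp.mem_or_mem hm).elim (fun h => ?_) hs', ?_⟩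
    · obtain ⟨i, -, hi⟩ := (Ideal.IsPrime.prod_mem_iff).1 h
      exact hs i hi
    · obtain ⟨e, he⟩ := Ideal.mem_span_singleton'.1 hsg
      rw [map_mul, mul_assoc, ← he, mul_left_comm, ← map_mul]
      exact Ideal.mul_mem_left _ _ (Ideal.mem_map_of_mem _ haI)

include hg hd in
/-- Over a prime under the family, the ideal of the base is generated by one regular element. -/
theorem exists_generator (j : ι) (Q : Ideal (B j)) [Q.IsPrime] :
    ∃ s a, s ∉ Q.comap (algebraMap A (B j)) ∧ a ∈ famIdeal g ∧ (∀ i ∈ famIdeal g, s * i ∈ Ideal.span {a}) ∧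
      ∀ b, b * a = 0 → s * b = 0 := by
  classical
  let φ := algebraMap A (B j)
  let p := Q.comap φ
  -- some element of the family generates at `Q`
  obtain ⟨a, haI, c, hac, hcQ⟩ : ∃ a ∈ famIdeal g, ∃ c, c * g j = φ a ∧ c ∉ Q := by
    by_contra hcon
    push Not at hcon
    have hle : (famIdeal g).map φ ≤ Q * Ideal.span {g j} := Ideal.map_le_iff_le_comap.2 fun a ha => by
      obtain ⟨c, hc⟩ := Ideal.mem_span_singleton'.1 ((mem_famIdeal g).1 ha j)
      rw [Ideal.mem_comap]
      change φ a ∈ _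
      rw [show φ a = c * g j from hc.symm]
      exact Ideal.mul_mem_mul (hcon a ha c hc) (Ideal.mem_span_singleton_self _)
    obtain ⟨q, hq, hqe⟩ := Ideal.mem_mul_span_singleton.1 (hle (mem_map_famIdeal g hg hd j))
    have : q = 1 := (mul_cancel_right_mem_nonZeroDivisors (hg j)).1 (by rw [hqe, one_mul])
    exact ‹Q.IsPrime›.one_notMem (this ▸ hq)
  have hloc : ∀ i ∈ famIdeal g, ∃ s, s ∉ p ∧ s * i ∈ Ideal.span {a} := by
    intro i hi
    obtain ⟨e, he⟩ := Ideal.mem_span_singleton'.1 ((mem_famIdeal g).1 hi j)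
    by_contra hcon
    push Not at hcon
    have hK : colonE (Ideal.span {a}) i ≤ p := fun s hs => by
      by_contra hsp
      exact hcon s hsp (by rw [mul_comm]; exact hs)
    refine hcQ (Ideal.map_le_iff_le_comap.2 hK (mem_map_of_forall_mul_mem (Ideal.span {a})
      (colonE (Ideal.span {a}) i) (fun _ : Unit => i) (fun c hc => hc ()) fun _ => ?_))
    change φ i * c ∈ _
    rw [show φ i * c = e * φ a by rw [show φ i = e * g j from he.symm, ← hac]; ring]
    exact Ideal.mul_mem_left _ _ (Ideal.mem_map_of_mem _ (Ideal.mem_span_singleton_self a))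
  have hann : ∀ b ∈ colonE (⊥ : Ideal A) a, ∃ s, s ∉ p ∧ s * b ∈ (⊥ : Ideal A) := by
    intro b hb
    by_contra hcon
    push Not at hcon
    have hK : colonE (⊥ : Ideal A) b ≤ p := fun s hs => by
      by_contra hsp
      exact hcon s hsp (by rw [mul_comm]; exact hs)
    refine hcQ (Ideal.map_le_iff_le_comap.2 hK (mem_map_of_forall_mul_mem ⊥
      (colonE (⊥ : Ideal A) b) (fun _ : Unit => b) (fun c hc => hc ()) fun _ => ?_))
    rw [Ideal.map_bot, Ideal.mem_bot]
    refine (mul_right_mem_nonZeroDivisors_eq_zero_iff (hg j)).1 ?_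
    rw [mul_assoc, show c * g j = φ a from hac, ← map_mul,
      show b * a = 0 from (mul_comm b a).trans (Ideal.mem_bot.1 hb), map_zero]
  obtain ⟨s₁, hs₁, h₁⟩ := exists_notMem_forall_mul_mem (p := p) (Ideal.span {a}) (famIdeal g) hloc
  obtain ⟨s₂, hs₂, h₂⟩ := exists_notMem_forall_mul_mem (p := p) ⊥ _ hann
  refine ⟨s₁ * s₂, a, fun hm => ((inferInstance : p.IsPrime).mem_or_mem hm).elim hs₁ hs₂, haI, fun i hi => ?_,
    fun b hb => ?_⟩
  · rw [mul_right_comm]
    exact Ideal.mul_mem_right _ _ (h₁ i hi)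
  · rw [mul_assoc, Ideal.mem_bot.1 (h₂ b (show a * b ∈ (⊥ : Ideal A) from Ideal.mem_bot.2 ((mul_comm a b).trans hb))), mul_zero]

omit [Finite ι] [IsNoetherianRing A] in
/-- A further principal ideal satisfying the hypotheses does not shrink the ideal of the base. -/
theorem le_comap_of_mem_map {B' : Type v} [CommRing B'] [Algebra A B'] (g' : B') (I' : Ideal A)
    (hI' : I' ≤ (Ideal.span {g'}).comap (algebraMap A B'))
    (hmem : ∀ j, g j ∈ I'.map (algebraMap A (B j)))
    (hcov : ∀ p : Ideal A, p.IsPrime → ∃ (j : ι) (Q : Ideal (B j)), Q.IsPrime ∧ Q.comap (algebraMap A (B j)) = p) :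
    famIdeal g ≤ (Ideal.span {g'}).comap (algebraMap A B') := by
  intro i hi
  refine hI' ?_
  by_contra hiI
  let K : Ideal A := colonE I' i
  have hK : K ≠ ⊤ := fun e => hiI (by
    have h1 : (1 : A) ∈ K := e ▸ Submodule.mem_top
    change i * 1 ∈ I' at h1
    rwa [mul_one] at h1)
  obtain ⟨M, hM, hle⟩ := Ideal.exists_le_maximal K hK
  obtain ⟨j, Q, hQ, hQM⟩ := hcov M hM.isPrime
  refine hQ.one_notMem (Ideal.map_le_iff_le_comap.2 (hle.trans_eq hQM.symm)
    (mem_map_of_forall_mul_mem I' K (fun _ : Unit => i) (fun c hc => hc ()) fun _ => ?_))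
  rw [mul_one]
  obtain ⟨e, he⟩ := Ideal.mem_span_singleton'.1 ((mem_famIdeal g).1 hi j)
  rw [← he]
  exact Ideal.mul_mem_left _ _ (hmem j)

end GrothLib.CartierDescent
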