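import Groth.Agent.Lib.CartierDescent.Algebra
import Groth.Agent.Lib.BlowUp.EffCartier
import Groth.Prelude.Def_CAlg

/-!
# Descent of effective Cartier divisors along faithfully flat morphisms
-/

set_option autoImplicit false
set_option backward.isDefEq.respectTransparency false
set_option backward.isDefEq.respectTransparency.types false

universe u

open CategoryTheory CategoryTheory.Limits AlgebraicGeometry TopologicalSpace

namespace GrothLib.CartierDescent

open GrothLib.BlowUp (CartierOn exists_cartierOn_le exists_affine_mem_le ideal_comap_eq_map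
  ideal_comap_eq_map_of_isAffine)

variable {X Y : Scheme.{u}}

/-- The stalk of an ideal sheaf. -/
noncomputable def stalkIdeal (𝓙 : X.IdealSheafData) (x : X) : Ideal (X.presheaf.stalk x) :=
  ((𝓙.comap (X.fromSpecStalk x)).ideal ⟨⊤, isAffineOpen_top _⟩).map
    (Scheme.ΓSpecIso (X.presheaf.stalk x)).hom.hom

theorem fromSpecStalk_appLE (U : X.Opens) {x : X} (hx : x ∈ U) (h : ⊤ ≤ X.fromSpecStalk x ⁻¹ᵁ U) :
    (X.fromSpecStalk x).appLE U ⊤ h ≫ (Scheme.ΓSpecIso (X.presheaf.stalk x)).hom = X.presheaf.germ U x hx := by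
  rw [Scheme.Hom.appLE, Scheme.fromSpecStalk_app hx]
  simp only [Category.assoc]
  rw [← Functor.map_comp_assoc]
  simp [Subsingleton.elim (_ ≫ _) (𝟙 (Opposite.op (⊤ : (Spec (X.presheaf.stalk x)).Opens)))]

theorem preimage_fromSpecStalk_eq_top (U : X.Opens) {x : X} (hx : x ∈ U) :
    ⊤ ≤ X.fromSpecStalk x ⁻¹ᵁ U := fun z _ => by
  have : X.fromSpecStalk x z ⤳ x := by
    have := Set.mem_range_self (f := X.fromSpecStalk x) z
    rwa [Scheme.range_fromSpecStalk] at this
  exact this.mem_open U.2 hx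

theorem stalkIdeal_eq (𝓙 : X.IdealSheafData) (V : X.affineOpens) {x : X} (hx : x ∈ V.1) :
    stalkIdeal 𝓙 x = (𝓙.ideal V).map (X.presheaf.germ V.1 x hx).hom := by
  rw [stalkIdeal, ideal_comap_eq_map 𝓙 (X.fromSpecStalk x) V ⟨⊤, isAffineOpen_top _⟩
    (preimage_fromSpecStalk_eq_top V.1 hx), Ideal.map_map, ← CommRingCat.hom_comp, fromSpecStalk_appLE V.1 hx]

/-- The ideals of the inverse image of an ideal of a local scheme. -/
theorem stalkIdeal_of_comap_eq {A : CommRingCat.{u}} {P : Scheme.{u}} (𝓘 : (Spec A).IdealSheafData)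
    (q₁ : P ⟶ X) (q₂ : P ⟶ Spec A) (𝓙 : X.IdealSheafData) (h : 𝓘.comap q₂ = 𝓙.comap q₁) (x : X)
    (φ : A ⟶ X.presheaf.stalk x) (l : Spec (X.presheaf.stalk x) ⟶ P) (h₁ : l ≫ q₁ = X.fromSpecStalk x)
    (h₂ : l ≫ q₂ = Spec.map φ) :
    stalkIdeal 𝓙 x = ((𝓘.ideal ⟨⊤, isAffineOpen_top _⟩).map (Scheme.ΓSpecIso A).hom.hom).map φ.hom := by
  rw [stalkIdeal, ← h₁, Scheme.IdealSheafData.comap_comp, ← h, ← Scheme.IdealSheafData.comap_comp, h₂,
    ideal_comap_eq_map_of_isAffine, Ideal.map_map, ← CommRingCat.hom_comp, Scheme.ΓSpecIso_naturality,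
    Ideal.map_map, ← CommRingCat.hom_comp]

/-- Membership in a principal ideal of a local ring, read on an affine open. -/
theorem exists_of_mem_span_germ {V : X.Opens} (hV : IsAffineOpen V) {x : X} (hx : x ∈ V) {b c : Γ(X, V)}
    (h : X.presheaf.germ V x hx b ∈ Ideal.span {X.presheaf.germ V x hx c}) :
    ∃ u, u ∉ (hV.primeIdealOf ⟨x, hx⟩).asIdeal ∧ u * b ∈ Ideal.span {c} := by
  let _ := TopCat.Presheaf.algebra_section_stalk X.presheaf (⟨x, hx⟩ : V)
  haveI := hV.isLocalization_stalk ⟨x, hx⟩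
  have h' : algebraMap Γ(X, V) (X.presheaf.stalk x) b ∈
      (Ideal.span {c}).map (algebraMap Γ(X, V) (X.presheaf.stalk x)) := by
    rw [Ideal.map_span, Set.image_singleton]; exact h
  obtain ⟨u, hu, hub⟩ := (IsLocalization.algebraMap_mem_map_algebraMap_iff
    (hV.primeIdealOf ⟨x, hx⟩).asIdeal.primeCompl (X.presheaf.stalk x) _ _).1 h'
  exact ⟨u, hu, hub⟩

theorem exists_primeIdealOf_eq {V : X.Opens} (hV : IsAffineOpen V) (Q : Ideal Γ(X, V)) [hQ : Q.IsPrime] :
    ∃ (x : X) (hx : x ∈ V), (hV.primeIdealOf ⟨x, hx⟩).asIdeal = Q := by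
  have hmem : hV.fromSpec ⟨Q, hQ⟩ ∈ V := by
    have := Set.mem_range_self (f := hV.fromSpec) ⟨Q, hQ⟩
    rwa [hV.range_fromSpec] at this
  have e : hV.primeIdealOf ⟨_, hmem⟩ = ⟨Q, hQ⟩ :=
    hV.fromSpec.isOpenEmbedding.injective (hV.fromSpec_primeIdealOf ⟨_, hmem⟩)
  exact ⟨_, hmem, by rw [e]⟩

variable (f : X ⟶ Y)

theorem comap_primeIdealOf {U : Y.Opens} (hU : IsAffineOpen U) {V : X.Opens} (hV : IsAffineOpen V)
    (h : V ≤ f ⁻¹ᵁ U) {x : X} (hx : x ∈ V) :
    (hV.primeIdealOf ⟨x, hx⟩).asIdeal.comap (f.appLE U V h).hom = (hU.primeIdealOf ⟨f x, h hx⟩).asIdeal := by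
  refine congrArg PrimeSpectrum.asIdeal
    (show Spec.map (f.appLE U V h) (hV.primeIdealOf ⟨x, hx⟩) = hU.primeIdealOf ⟨f x, h hx⟩ from ?_)
  refine hU.fromSpec.isOpenEmbedding.injective ?_
  rw [← Scheme.Hom.comp_apply, IsAffineOpen.SpecMap_appLE_fromSpec f hU hV h, Scheme.Hom.comp_apply,
    hV.fromSpec_primeIdealOf, hU.fromSpec_primeIdealOf]

theorem specializes_of_primeIdealOf_le {U : Y.Opens} (hU : IsAffineOpen U) {y z : Y} (hy : y ∈ U) (hz : z ∈ U)
    (h : (hU.primeIdealOf ⟨z, hz⟩).asIdeal ≤ (hU.primeIdealOf ⟨y, hy⟩).asIdeal) : z ⤳ y := by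
  have := ((PrimeSpectrum.le_iff_specializes _ _).1 h).map hU.fromSpec.continuous
  rwa [hU.fromSpec_primeIdealOf, hU.fromSpec_primeIdealOf] at this

/-- The condition at a point of the base: the ideal is given by one element of the local ring on all
points over its generizations. -/
def StalkPrincipal (𝓙 : X.IdealSheafData) (y : Y) : Prop :=
  ∃ a : Y.presheaf.stalk y, ∀ (x : X) (h : f x ⤳ y),
    stalkIdeal 𝓙 x = Ideal.span {(Y.presheaf.stalkSpecializes h ≫ f.stalkMap x) a}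

variable {f} (𝓙 : X.IdealSheafData)

/-- The hypotheses of the algebraic descent. -/
theorem hasPairAt_or_isPrincipalAt [Flat f]
    (hstalk : ∀ y : Y, LocCoh.depth (Y.presheaf.stalk y) (Y.presheaf.stalk y) ≤ 1 → StalkPrincipal f 𝓙 y)
    (U : Y.affineOpens) {ι : Type*} [Finite ι] (V : ι → X.affineOpens) (hV : ∀ j, (V j).1 ≤ f ⁻¹ᵁ U.1)
    (g : ∀ j, Γ(X, (V j).1)) (hg : ∀ j, 𝓙.ideal (V j) = Ideal.span {g j}) (p : Ideal Γ(Y, U.1)) [p.IsPrime] :
    letI : ∀ j, Algebra Γ(Y, U.1) Γ(X, (V j).1) := fun j => (f.appLE U.1 (V j).1 (hV j)).hom.toAlgebra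
    HasPairAt p ∨ IsPrincipalAt g p := by
  classical
  let _ : ∀ j, Algebra Γ(Y, U.1) Γ(X, (V j).1) := fun j => (f.appLE U.1 (V j).1 (hV j)).hom.toAlgebra
  obtain ⟨y, hy, rfl⟩ := exists_primeIdealOf_eq U.2 p
  let _ := TopCat.Presheaf.algebra_section_stalk Y.presheaf (⟨y, hy⟩ : U.1)
  haveI := U.2.isLocalization_stalk ⟨y, hy⟩
  let S := Y.presheaf.stalk y
  let π := algebraMap Γ(Y, U.1) S
  let p := (U.2.primeIdealOf ⟨y, hy⟩).asIdeal
  by_cases hd : LocCoh.depth S S ≤ 1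
  · right
    obtain ⟨a, ha⟩ := hstalk y hd
    obtain ⟨a', s₀, rfl⟩ := IsLocalization.exists_mk'_eq p.primeCompl a
    refine ⟨a', fun j => ?_⟩
    let φ := algebraMap Γ(Y, U.1) Γ(X, (V j).1)
    have key : ∀ (b c : Γ(X, (V j).1)),
        (∀ (x : X) (hx : x ∈ (V j).1) (h : f x ⤳ y), X.presheaf.germ _ x hx b ∈ Ideal.span {X.presheaf.germ _ x hx c}) →
        ∃ s, s ∉ p ∧ φ s * b ∈ Ideal.span {c} := by
      intro b c hbc
      by_contra hcon
      push Not at hcon
      let K : Ideal Γ(X, (V j).1) := colonE (Ideal.span {c}) b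
      have hdisj : Disjoint (K : Set Γ(X, (V j).1)) ((p.primeCompl.map φ : Submonoid _) : Set Γ(X, (V j).1)) := by
        rw [Set.disjoint_left]
        rintro _ hzK ⟨s, hs, rfl⟩
        exact hcon s hs (by rw [mul_comm]; exact hzK)
      obtain ⟨Q, hQ, hKQ, hQd⟩ := Ideal.exists_le_prime_disjoint K _ hdisj
      obtain ⟨x, hx, rfl⟩ := exists_primeIdealOf_eq (V j).2 Q
      have hle : (U.2.primeIdealOf ⟨f x, hV j hx⟩).asIdeal ≤ p := by
        rw [← comap_primeIdealOf f U.2 (V j).2 (hV j) hx]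
        intro s hs
        by_contra hsp
        exact Set.disjoint_left.1 hQd hs ⟨s, hsp, rfl⟩
      obtain ⟨u, hu, hub⟩ := exists_of_mem_span_germ (V j).2 hx
        (hbc x hx (specializes_of_primeIdealOf_le U.2 hy (hV j hx) hle))
      exact hu (hKQ (show b * u ∈ Ideal.span {c} by rw [mul_comm]; exact hub))
    have hgen : ∀ (x : X) (hx : x ∈ (V j).1) (h : f x ⤳ y),
        Ideal.span {X.presheaf.germ _ x hx (g j)} = Ideal.span {X.presheaf.germ _ x hx (φ a')} := by
      intro x hx h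
      have e := ha x h
      rw [stalkIdeal_eq 𝓙 (V j) hx, hg j, Ideal.map_span, Set.image_singleton] at e
      rw [e]
      let χ := (Y.presheaf.stalkSpecializes h ≫ f.stalkMap x).hom
      have hφ : ∀ z, χ (π z) = X.presheaf.germ _ x hx (φ z) := by
        intro z
        change (f.stalkMap x) ((Y.presheaf.stalkSpecializes h) (Y.presheaf.germ U.1 y hy z)) = _
        rw [TopCat.Presheaf.germ_stalkSpecializes_apply, Scheme.Hom.germ_stalkMap_apply,
          show φ z = (X.presheaf.map (homOfLE (hV j)).op) (f.app U.1 z) from rfl,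
          TopCat.Presheaf.germ_res_apply]
      have hspec := congrArg χ (IsLocalization.mk'_spec S a' s₀)
      rw [map_mul, hφ, hφ] at hspec
      have hu : IsUnit (X.presheaf.germ _ x hx (φ s₀)) := by
        rw [← hφ]
        exact (IsLocalization.map_units S s₀).map χ
      rw [← hspec]
      exact (Ideal.span_singleton_mul_right_unit hu _).symm
    refine ⟨?_, ?_⟩
    · obtain ⟨s, hs, hsa⟩ := key (φ a') (g j) fun x hx h => by
        rw [hgen x hx h]; exact Ideal.mem_span_singleton_self _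
      exact ⟨s, hs, by rw [map_mul]; exact hsa⟩
    · exact key (g j) (φ a') fun x hx h => by
        rw [← hgen x hx h]; exact Ideal.mem_span_singleton_self _
  · left
    rw [not_le, LocCoh.depth, LocCoh.idealDepth] at hd
    split_ifs at hd with htop
    · exfalso
      exact (IsLocalRing.maximalIdeal.isMaximal S).ne_top (by simpa using htop)
    obtain ⟨rs, hrs⟩ := lt_iSup_iff.1 hd
    obtain ⟨⟨hreg, hmem⟩, hlen⟩ := lt_iSup_iff.1 hrs
    match rs, hreg, hmem, hlen with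
    | [], _, _, hlen => simp at hlen
    | [_], _, _, hlen => simp at hlen
    | x :: y' :: tl, hreg, hmem, _ =>
      rw [RingTheory.Sequence.isWeaklyRegular_cons_iff, RingTheory.Sequence.isWeaklyRegular_cons_iff] at hreg
      obtain ⟨hx1, hy1, -⟩ := hreg
      obtain ⟨x₀, sx, hsx⟩ := IsLocalization.exists_mk'_eq p.primeCompl x
      obtain ⟨y₀, sy, hsy⟩ := IsLocalization.exists_mk'_eq p.primeCompl y'
      have hx₀ : π x₀ = x * π sx := by rw [← hsx, IsLocalization.mk'_spec]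
      have hy₀ : π y₀ = y' * π sy := by rw [← hsy, IsLocalization.mk'_spec]
      have hmp : ∀ z, π z ∈ IsLocalRing.maximalIdeal S → z ∈ p := fun z hz => by
        by_contra hzp
        exact (IsLocalRing.mem_maximalIdeal _).1 hz (IsLocalization.map_units S (⟨z, hzp⟩ : p.primeCompl))
      refine ⟨x₀, y₀, hmp _ (hx₀ ▸ Ideal.mul_mem_right _ _ (hmem x (by simp))),
        hmp _ (hy₀ ▸ Ideal.mul_mem_right _ _ (hmem y' (by simp))), fun b hb => ?_, fun a b hab => ?_⟩
      · have h0 : π b = 0 := by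
          refine hx1 (show x • π b = x • (0 : S) from ?_)
          rw [smul_zero, smul_eq_mul]
          refine (IsLocalization.map_units S sx).mul_left_eq_zero.1 ?_
          rw [mul_right_comm, ← hx₀, ← map_mul, hb, map_zero]
        obtain ⟨s, hs⟩ := (IsLocalization.map_eq_zero_iff p.primeCompl S b).1 h0
        exact ⟨s, s.2, hs⟩
      · have hmem' : π a ∈ Ideal.span {π x₀} := by
          rw [hx₀, Ideal.span_singleton_mul_right_unit (IsLocalization.map_units S sx)]
          have hq : y' • (Submodule.Quotient.mk (π a) : QuotSMulTop x S) = y' • 0 := by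
            rw [smul_zero, ← Submodule.Quotient.mk_smul, Submodule.Quotient.mk_eq_zero]
            obtain ⟨w, hw⟩ : x ∣ y' * π a := by
              refine (IsLocalization.map_units S sy).dvd_mul_right.1 ?_
              rw [mul_right_comm, ← hy₀, ← map_mul, hab, map_mul, hx₀, mul_assoc]
              exact dvd_mul_right _ _
            exact ⟨w, trivial, hw.symm⟩
          obtain ⟨w, -, hw⟩ := (Submodule.Quotient.mk_eq_zero _).1 (hy1 hq)
          exact Ideal.mem_span_singleton.2 ⟨w, hw.symm⟩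
        have h' : π a ∈ (Ideal.span {x₀}).map π := by
          rw [Ideal.map_span, Set.image_singleton]; exact hmem'
        obtain ⟨s, hs, hsa⟩ := (IsLocalization.algebraMap_mem_map_algebraMap_iff p.primeCompl S _ _).1 h'
        exact ⟨s, hs, hsa⟩

variable (f)

/-- Sections of the base whose pullback lies in the ideal. -/
noncomputable def pushIdeal (U : Y.affineOpens) : Ideal Γ(Y, U.1) :=
  ⨅ (V : X.affineOpens) (h : V.1 ≤ f ⁻¹ᵁ U.1), (𝓙.ideal V).comap (f.appLE U.1 V.1 h).hom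

variable {f}

/-- A finite family of Cartier affines over an affine open. -/
structure Cover (U : Y.affineOpens) where
  /-- the index type -/
  ι : Type u
  /-- finiteness -/
  fin : Finite ι
  /-- the opens -/
  V : ι → X.affineOpens
  le : ∀ j, (V j).1 ≤ f ⁻¹ᵁ U.1
  /-- generators -/
  g : ∀ j, Γ(X, (V j).1)
  reg : ∀ j, g j ∈ nonZeroDivisors Γ(X, (V j).1)
  eq : ∀ j, 𝓙.ideal (V j) = Ideal.span {g j}
  cov : ∀ y ∈ U.1, ∃ j x, x ∈ (V j).1 ∧ f x = y

theorem nonempty_cover [Surjective f] (hf : QuasiCompact f ∨ IsOpenMap f) (hJ : BlowUp.IsEffCartierIdeal 𝓙)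
    (U : Y.affineOpens) : Nonempty (Cover (f := f) 𝓙 U) := by
  classical
  choose W hxW hWle hW using fun x : (f ⁻¹ᵁ U.1 : X.Opens) => exists_cartierOn_le hJ (W := f ⁻¹ᵁ U.1) x.2
  obtain ⟨t, ht⟩ : ∃ t : Finset (f ⁻¹ᵁ U.1 : X.Opens), ∀ y ∈ U.1, ∃ x ∈ t, ∃ z, z ∈ (W x).1 ∧ f z = y := by
    rcases hf with hf | hf
    · obtain ⟨t, ht⟩ := (f.isCompact_preimage U.2.isCompact).elim_finite_subcover
        (fun x => ((W x).1 : Set X)) (fun x => (W x).1.2) fun x hx => Set.mem_iUnion.2 ⟨⟨x, hx⟩, hxW ⟨x, hx⟩⟩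
      refine ⟨t, fun y hy => ?_⟩
      obtain ⟨z, rfl⟩ := f.surjective y
      obtain ⟨x, hx, hz⟩ := Set.mem_iUnion₂.1 (ht (show z ∈ f ⁻¹ᵁ U.1 from hy))
      exact ⟨x, hx, z, hz, rfl⟩
    · obtain ⟨t, ht⟩ := U.2.isCompact.elim_finite_subcover
        (fun x => f '' ((W x).1 : Set X)) (fun x => hf _ (W x).1.2) fun y hy => by
          obtain ⟨z, rfl⟩ := f.surjective y
          exact Set.mem_iUnion.2 ⟨⟨z, hy⟩, z, hxW ⟨z, hy⟩, rfl⟩
      refine ⟨t, fun y hy => ?_⟩
      obtain ⟨x, hx, z, hz, rfl⟩ := Set.mem_iUnion₂.1 (ht hy)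
      exact ⟨x, hx, z, hz, rfl⟩
  choose g hg hge using hW
  exact ⟨{
    ι := t, fin := inferInstance, V := fun x => W x.1, le := fun x => hWle x.1, g := fun x => g x.1
    reg := fun x => hg x.1, eq := fun x => hge x.1
    cov := fun y hy => by
      obtain ⟨x, hx, z, hz, e⟩ := ht y hy
      exact ⟨⟨x, hx⟩, z, hz, e⟩ }⟩

section

variable [Flat f] [IsLocallyNoetherian Y]
  (hstalk : ∀ y : Y, LocCoh.depth (Y.presheaf.stalk y) (Y.presheaf.stalk y) ≤ 1 → StalkPrincipal f 𝓙 y)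

/-- The algebra structure of an affine over an affine. -/
@[reducible] noncomputable def algOf {U : Y.affineOpens} {V : X.affineOpens} (h : V.1 ≤ f ⁻¹ᵁ U.1) :
    Algebra Γ(Y, U.1) Γ(X, V.1) := (f.appLE U.1 V.1 h).hom.toAlgebra

theorem flat_algOf {U : Y.affineOpens} {V : X.affineOpens} (h : V.1 ≤ f ⁻¹ᵁ U.1) :
    letI := algOf h
    Module.Flat Γ(Y, U.1) Γ(X, V.1) :=
  Scheme.Hom.flat_appLE f U.2 V.2 h

variable {𝓙} {U : Y.affineOpens} (c : Cover (f := f) 𝓙 U)

/-- The ideal of the base cut out by a cover. -/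
noncomputable def Cover.base : Ideal Γ(Y, U.1) :=
  ⨅ j, (Ideal.span {c.g j}).comap (f.appLE U.1 (c.V j).1 (c.le j)).hom

omit [Flat f] [IsLocallyNoetherian Y] in
theorem pushIdeal_le_base : pushIdeal f 𝓙 U ≤ c.base :=
  le_iInf fun j => (iInf₂_le (c.V j) (c.le j)).trans (Ideal.comap_mono (c.eq j).le)

include hstalk

theorem Cover.map_base (j : c.ι) : c.g j ∈ c.base.map (f.appLE U.1 (c.V j).1 (c.le j)).hom := by
  haveI := c.fin
  haveI : IsNoetherianRing Γ(Y, U.1) := IsLocallyNoetherian.component_noetherian U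
  let _ : ∀ j, Algebra Γ(Y, U.1) Γ(X, (c.V j).1) := fun j => algOf (c.le j)
  haveI : ∀ j, Module.Flat Γ(Y, U.1) Γ(X, (c.V j).1) := fun j => flat_algOf (c.le j)
  exact mem_map_famIdeal c.g c.reg
    (fun p hp => hasPairAt_or_isPrincipalAt 𝓙 hstalk U c.V c.le c.g c.eq p) j

theorem Cover.base_le_comap {V' : X.affineOpens} (h : V'.1 ≤ f ⁻¹ᵁ U.1) (hV' : CartierOn 𝓙 V') :
    c.base ≤ (𝓙.ideal V').comap (f.appLE U.1 V'.1 h).hom := by
  obtain ⟨g', hg', hge'⟩ := hV'
  haveI := c.fin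
  let d : Cover (f := f) 𝓙 U :=
    { ι := Option c.ι
      fin := inferInstance
      V := fun o => o.elim V' c.V
      le := fun o => match o with | none => h | some j => c.le j
      g := fun o => match o with | none => g' | some j => c.g j
      reg := fun o => match o with | none => hg' | some j => c.reg j
      eq := fun o => match o with | none => hge' | some j => c.eq j
      cov := fun y hy => by
        obtain ⟨j, x, hx, e⟩ := c.cov y hy
        exact ⟨some j, x, hx, e⟩ }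
  rw [hge']
  let _ : ∀ j, Algebra Γ(Y, U.1) Γ(X, (c.V j).1) := fun j => algOf (c.le j)
  haveI : ∀ j, Module.Flat Γ(Y, U.1) Γ(X, (c.V j).1) := fun j => flat_algOf (c.le j)
  let _ : Algebra Γ(Y, U.1) Γ(X, V'.1) := algOf h
  refine le_comap_of_mem_map c.g g' d.base (iInf_le _ none) (fun j => d.map_base hstalk (some j)) fun p hp => ?_
  obtain ⟨y, hy, rfl⟩ := exists_primeIdealOf_eq U.2 p
  obtain ⟨j, x, hx, rfl⟩ := c.cov y hy
  exact ⟨j, ((c.V j).2.primeIdealOf ⟨x, hx⟩).asIdeal, inferInstance, comap_primeIdealOf f U.2 (c.V j).2 (c.le j) hx⟩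

theorem Cover.base_eq (hJ : BlowUp.IsEffCartierIdeal 𝓙) : c.base = pushIdeal f 𝓙 U := by
  refine le_antisymm (le_iInf₂ fun V hV a ha => ?_) (pushIdeal_le_base c)
  rw [Ideal.mem_comap]
  choose W hxW hWle hW using fun x : V.1 => exists_cartierOn_le hJ (W := V.1) x.2
  refine V.2.mem_ideal_iff.2 fun x hx => ?_
  have := c.base_le_comap hstalk ((hWle ⟨x, hx⟩).trans hV) (hW _) ha
  rw [Ideal.mem_comap] at this
  have h1 := Ideal.mem_map_of_mem (X.presheaf.germ (W ⟨x, hx⟩).1 x (hxW _)).hom this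
  rw [← 𝓙.map_ideal (U := W ⟨x, hx⟩) (V := V) (hWle _), Ideal.map_map, ← CommRingCat.hom_comp,
    ← Scheme.Hom.appLE_map f hV (homOfLE (hWle ⟨x, hx⟩)).op] at h1
  erw [TopCat.Presheaf.germ_res] at h1
  erw [TopCat.Presheaf.germ_res_apply] at h1
  exact h1

omit [Flat f] [IsLocallyNoetherian Y] in
theorem map_res_le {W : Y.affineOpens} (hWU : W.1 ≤ U.1) :
    (pushIdeal f 𝓙 U).map (Y.presheaf.map (homOfLE hWU).op).hom ≤ pushIdeal f 𝓙 W := by
  rw [Ideal.map_le_iff_le_comap]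
  intro a ha
  refine Submodule.mem_iInf _ |>.2 fun V => Submodule.mem_iInf _ |>.2 fun hV => ?_
  rw [Ideal.mem_comap, ← CommRingCat.comp_apply, Scheme.Hom.map_appLE]
  exact (Submodule.mem_iInf _).1 ((Submodule.mem_iInf _).1 ha V) _

theorem pushIdeal_basicOpen (hJ : BlowUp.IsEffCartierIdeal 𝓙) [Surjective f] (hf : QuasiCompact f ∨ IsOpenMap f)
    (U : Y.affineOpens) (s : Γ(Y, U.1)) :
    (pushIdeal f 𝓙 U).map (Y.presheaf.map (homOfLE (Y.basicOpen_le s)).op).hom =
      pushIdeal f 𝓙 (Y.affineBasicOpen s) := by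
  refine le_antisymm (map_res_le hstalk (W := Y.affineBasicOpen s) (Y.basicOpen_le s)) fun i hi => ?_
  obtain ⟨c⟩ := nonempty_cover 𝓙 hf hJ U
  haveI := c.fin
  have := Fintype.ofFinite c.ι
  let ρ := (Y.presheaf.map (homOfLE (Y.basicOpen_le s)).op).hom
  let _ : Algebra Γ(Y, U.1) Γ(Y, Y.basicOpen s) := ρ.toAlgebra
  haveI : IsLocalization.Away s Γ(Y, Y.basicOpen s) := U.2.isLocalization_basicOpen s
  obtain ⟨⟨a, ⟨_, n, rfl⟩⟩, ha⟩ := IsLocalization.surj (Submonoid.powers s) i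
  have key : ∀ j, ∃ m, f.appLE U.1 (c.V j).1 (c.le j) (s ^ m * a) ∈ Ideal.span {c.g j} := by
    intro j
    let φ := f.appLE U.1 (c.V j).1 (c.le j)
    let W : X.affineOpens := X.affineBasicOpen (φ s)
    have hW : W.1 ≤ f ⁻¹ᵁ Y.basicOpen s := by
      refine (X.basicOpen_res _ (homOfLE (c.le j)).op).trans_le (inf_le_right.trans ?_)
      exact (f.preimage_basicOpen s).ge
    let σ := (X.presheaf.map (homOfLE (X.basicOpen_le (φ s))).op).hom
    let _ : Algebra Γ(X, (c.V j).1) Γ(X, W.1) := σ.toAlgebra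
    haveI : IsLocalization.Away (φ s) Γ(X, W.1) := (c.V j).2.isLocalization_basicOpen (φ s)
    have h1 : f.appLE (Y.basicOpen s) W.1 hW (ρ a) ∈ 𝓙.ideal W := by
      rw [show ρ a = _ from ha.symm, map_mul]
      exact Ideal.mul_mem_right _ _ ((iInf₂_le W hW : pushIdeal f 𝓙 (Y.affineBasicOpen s) ≤ _) hi)
    rw [← 𝓙.map_ideal_basicOpen (c.V j) (φ s), c.eq j] at h1
    have h2 : algebraMap _ Γ(X, W.1) (φ a) ∈ (Ideal.span {c.g j}).map (algebraMap Γ(X, (c.V j).1) Γ(X, W.1)) := by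
      refine Eq.mp (congrArg (· ∈ _) ?_) h1
      change ((Y.presheaf.map (homOfLE (Y.basicOpen_le s)).op) ≫ f.appLE (Y.basicOpen s) W.1 hW) a =
        (f.appLE U.1 (c.V j).1 (c.le j) ≫ X.presheaf.map (homOfLE (X.basicOpen_le (φ s))).op) a
      rw [Scheme.Hom.map_appLE, Scheme.Hom.appLE_map]
      rfl
    obtain ⟨_, ⟨m, rfl⟩, hm⟩ := (IsLocalization.algebraMap_mem_map_algebraMap_iff
      (Submonoid.powers (φ s)) Γ(X, W.1) _ _).1 h2
    exact ⟨m, by rw [map_mul, map_pow]; exact hm⟩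
  choose m hm using key
  have hmem : s ^ (∑ j, m j) * a ∈ pushIdeal f 𝓙 U := by
    rw [← c.base_eq hstalk hJ]
    refine Submodule.mem_iInf _ |>.2 fun j => ?_
    exact Ideal.mem_of_dvd _ (mul_dvd_mul_right (pow_dvd_pow s (Finset.single_le_sum
      (f := m) (fun _ _ => Nat.zero_le _) (Finset.mem_univ j))) a) (hm j)
  have hu : IsUnit (ρ (s ^ (∑ j, m j + n))) := IsLocalization.map_units Γ(Y, Y.basicOpen s)
    (⟨s ^ (∑ j, m j + n), _, rfl⟩ : Submonoid.powers s)
  refine (Ideal.mul_unit_mem_iff_mem _ hu).1 ?_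
  rw [pow_add, map_mul, ← mul_assoc, mul_comm i, mul_assoc,
    show i * ρ (s ^ n) = ρ a from ha, ← map_mul]
  exact Ideal.mem_map_of_mem _ hmem

/-- Descent of an effective Cartier divisor which is principal over the local rings of depth at most one. -/
theorem exists_descent (hJ : BlowUp.IsEffCartierIdeal 𝓙) [Surjective f] (hf : QuasiCompact f ∨ IsOpenMap f) :
    ∃ 𝓘 : Y.IdealSheafData, BlowUp.IsEffCartierIdeal 𝓘 ∧ 𝓘.comap f = 𝓙 := by
  let 𝓘 : Y.IdealSheafData :=
    { ideal := pushIdeal f 𝓙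
      map_ideal_basicOpen := pushIdeal_basicOpen hstalk hJ hf }
  refine ⟨𝓘, fun y => ?_, ?_⟩
  · obtain ⟨U, hyU, -⟩ := exists_affine_mem_le (W := (⊤ : Y.Opens)) (x := y) trivial
    obtain ⟨c⟩ := nonempty_cover 𝓙 hf hJ U
    obtain ⟨j, x, hx, rfl⟩ := c.cov y hyU
    haveI := c.fin
    haveI : IsNoetherianRing Γ(Y, U.1) := IsLocallyNoetherian.component_noetherian U
    let _ : ∀ j, Algebra Γ(Y, U.1) Γ(X, (c.V j).1) := fun j => algOf (c.le j)
    haveI : ∀ j, Module.Flat Γ(Y, U.1) Γ(X, (c.V j).1) := fun j => flat_algOf (c.le j)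
    obtain ⟨s, a, hs, ha, hgen, hreg⟩ := exists_generator c.g c.reg
      (fun p hp => hasPairAt_or_isPrincipalAt 𝓙 hstalk U c.V c.le c.g c.eq p) j
      ((c.V j).2.primeIdealOf ⟨x, hx⟩).asIdeal
    change s ∉ Ideal.comap (f.appLE U.1 (c.V j).1 (c.le j)).hom _ at hs
    rw [comap_primeIdealOf f U.2 (c.V j).2 (c.le j) hx] at hs
    let _ : Algebra Γ(Y, U.1) Γ(Y, Y.basicOpen s) :=
      (Y.presheaf.map (homOfLE (Y.basicOpen_le s)).op).hom.toAlgebra
    haveI : IsLocalization.Away s Γ(Y, Y.basicOpen s) := U.2.isLocalization_basicOpen s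
    refine ⟨Y.affineBasicOpen s, ?_, algebraMap Γ(Y, U.1) Γ(Y, Y.basicOpen s) a, ?_, ?_⟩
    · have hpre := congr((f x) ∈ $(U.2.fromSpec_image_basicOpen s))
      refine hpre.mp ⟨U.2.primeIdealOf ⟨f x, hyU⟩, hs, U.2.fromSpec_primeIdealOf _⟩
    · show algebraMap Γ(Y, U.1) Γ(Y, Y.basicOpen s) a ∈ nonZeroDivisors Γ(Y, Y.basicOpen s)
      rw [mem_nonZeroDivisors_iff_right]
      intro z hz
      obtain ⟨⟨b, t⟩, hb⟩ := IsLocalization.surj (Submonoid.powers s) z
      have h0 : algebraMap Γ(Y, U.1) Γ(Y, Y.basicOpen s) (b * a) = 0 := by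
        rw [map_mul, ← hb, mul_right_comm, hz, zero_mul]
      obtain ⟨⟨_, k, rfl⟩, hk⟩ := (IsLocalization.map_eq_zero_iff (Submonoid.powers s) _ _).1 h0
      have hk' : s ^ (k + 1) * b = 0 := by
        rw [pow_succ', mul_assoc]
        exact hreg (s ^ k * b) (by rw [mul_assoc]; exact hk)
      refine (IsLocalization.map_units Γ(Y, Y.basicOpen s) t).mul_left_eq_zero.1 ?_
      rw [hb]
      exact (IsLocalization.map_eq_zero_iff (Submonoid.powers s) _ _).2 ⟨⟨_, k + 1, rfl⟩, hk'⟩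
    · change pushIdeal f 𝓙 (Y.affineBasicOpen s) = _
      rw [← pushIdeal_basicOpen hstalk hJ hf U s, ← c.base_eq hstalk hJ]
      refine le_antisymm (Ideal.map_le_iff_le_comap.2 fun i hi => ?_)
        ((Ideal.span_singleton_le_iff_mem _).2 (Ideal.mem_map_of_mem _ ha))
      obtain ⟨e, he⟩ := Ideal.mem_span_singleton'.1 (hgen i hi)
      rw [Ideal.mem_comap]
      refine (Ideal.unit_mul_mem_iff_mem _ (IsLocalization.map_units Γ(Y, Y.basicOpen s)
        (⟨s, 1, pow_one s⟩ : Submonoid.powers s))).1 ?_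
      change algebraMap Γ(Y, U.1) Γ(Y, Y.basicOpen s) s * algebraMap Γ(Y, U.1) Γ(Y, Y.basicOpen s) i ∈ _
      rw [← map_mul, ← he, map_mul]
      exact Ideal.mul_mem_left _ _ (Ideal.mem_span_singleton_self _)
  · choose U hU hU' using fun x : X => exists_affine_mem_le (W := (⊤ : Y.Opens)) (x := f x) trivial
    choose V hxV hVle hV using fun x : X => exists_cartierOn_le hJ (W := f ⁻¹ᵁ (U x).1) (hU x)
    refine Scheme.IdealSheafData.ext_of_iSup_eq_top V
      (top_unique fun x _ => Opens.mem_iSup.mpr ⟨x, hxV x⟩) fun x => ?_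
    rw [ideal_comap_eq_map 𝓘 f (U x) (V x) (hVle x)]
    refine le_antisymm (Ideal.map_le_iff_le_comap.2 (iInf₂_le (V x) (hVle x))) ?_
    obtain ⟨c⟩ := nonempty_cover 𝓙 hf hJ (U x)
    obtain ⟨g', hg', hge'⟩ := hV x
    haveI := c.fin
    let d : Cover (f := f) 𝓙 (U x) :=
      { ι := Option c.ι
        fin := inferInstance
        V := fun o => o.elim (V x) c.V
        le := fun o => match o with | none => hVle x | some j => c.le j
        g := fun o => match o with | none => g' | some j => c.g j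
        reg := fun o => match o with | none => hg' | some j => c.reg j
        eq := fun o => match o with | none => hge' | some j => c.eq j
        cov := fun y hy => by
          obtain ⟨j, z, hz, e⟩ := c.cov y hy
          exact ⟨some j, z, hz, e⟩ }
    rw [hge', Ideal.span_singleton_le_iff_mem]
    change g' ∈ (pushIdeal f 𝓙 (U x)).map _
    rw [← d.base_eq hstalk hJ]
    exact d.map_base hstalk none

end

end GrothLib.CartierDescent
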